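import Cfsg.Agent.Lib.Perm.Trans.SympMax
import Mathlib.Algebra.CharP.Two

/-!
# Symplectic groups in characteristic two: elements of the radical of a point stabiliser

For a vector `p` and `v` orthogonal to `p` the element `rs p v c` maps
`x` to `x + f(x, v) p + f(x, p) v + c f(x, p) p`.
-/

set_option autoImplicit false
set_option linter.all false

namespace CfsgLib.Perm.Trans.Symp.O2

open scoped Matrix
open Matrix Cfsg.Geo CfsgLib.Perm.Asch CfsgLib.Perm.Trans CfsgLib.Perm.Trans.Symp

variable {ι : Type} [Fintype ι] [DecidableEq ι] {F : Type*} [Field F]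
variable {f : (ι → F) → (ι → F) → F}

section

variable (h2 : (2 : F) = 0)
include h2

theorem add_self_eq (a : F) : a + a = 0 := by linear_combination a * h2

theorem neg_eq (a : F) : -a = a := by linear_combination (-a) * h2

theorem eq_of_add_eq_zero {a b : F} (h : a + b = 0) : a = b := by linear_combination h - b * h2

theorem vadd_self (v : ι → F) : v + v = 0 := funext fun i => add_self_eq h2 (v i)

theorem sq_inj {a b : F} (h : a ^ 2 = b ^ 2) : a = b := by
  have h1 : (a - b) * (a - b) = 0 := by linear_combination h + (b ^ 2 - a * b) * h2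
  exact sub_eq_zero.1 (mul_self_eq_zero.1 h1)

theorem exists_sq [Finite F] (a : F) : ∃ b : F, b ^ 2 = a :=
  Finite.injective_iff_surjective.1 (fun _ _ h => sq_inj h2 h) a

variable (hf : IsSymplecticForm f)
include hf

theorem comm (u v : ι → F) : f u v = f v u := by rw [hf.skew, neg_eq h2]

end

variable (hf : IsSymplecticForm f)

/-- the element `x ↦ x + f(x, v) p + f(x, p) v + c f(x, p) p` -/
def rs (p v : ι → F) (c : F) : GL ι F := stv hf (p + v) 1 * stv hf v 1 * stv hf p (c + 1)

variable (h2 : (2 : F) = 0)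
include hf

theorem rs_iso (p v : ι → F) (c : F) : rs hf p v c ∈ isoSub f :=
  mul_mem (mul_mem (stv_iso hf _ _) (stv_iso hf _ _)) (stv_iso hf _ _)

include h2

theorem rs_mulVec {p v : ι → F} (h : f v p = 0) (c : F) (x : ι → F) :
    (rs hf p v c : Matrix ι ι F) *ᵥ x = x + f x v • p + f x p • v + (c * f x p) • p := by
  have h' : f p v = 0 := swap_zero hf h
  rw [rs, gl_mul_mulVec, gl_mul_mulVec, stv_mulVec, stv_mulVec, stv_mulVec]
  simp only [hf.bilinear.add_left, hf.bilinear.smul_left, hf.bilinear.add_right, hf.alternating, h, h']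
  match_scalars
  · ring
  · linear_combination (f x p) * h2
  · linear_combination (f x v) * h2

theorem rs_mul {p v w : ι → F} (hv : f v p = 0) (hw : f w p = 0) (c d : F) :
    rs hf p v c * rs hf p w d = rs hf p (v + w) (c + d + f v w) := gl_ext_vec fun x => by
  have hvw : f (v + w) p = 0 := by rw [hf.bilinear.add_left, hv, hw, add_zero]
  rw [gl_mul_mulVec, rs_mulVec hf h2 hv, rs_mulVec hf h2 hw, rs_mulVec hf h2 hvw]
  simp only [hf.bilinear.add_left, hf.bilinear.smul_left, hf.bilinear.add_right, hf.alternating, hv, hw,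
    swap_zero hf hv, swap_zero hf hw]
  rw [comm h2 hf w v]
  module

theorem rs_mod {p v : ι → F} (hv : f v p = 0) (t c : F) : rs hf p (v + t • p) c = rs hf p v c := gl_ext_vec fun x => by
  have hvt : f (v + t • p) p = 0 := by
    rw [hf.bilinear.add_left, hf.bilinear.smul_left, hf.alternating, hv, mul_zero, add_zero]
  rw [rs_mulVec hf h2 hv, rs_mulVec hf h2 hvt, hf.bilinear.add_right, hf.bilinear.smul_right]
  match_scalars
  · ring
  · linear_combination (t * f x p) * h2
  · ring

omit h2 in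
theorem rs_conj {g : GL ι F} (hg : g ∈ isoSub f) (p v : ι → F) (c : F) :
    g * rs hf p v c * g⁻¹ = rs hf ((g : Matrix ι ι F) *ᵥ p) ((g : Matrix ι ι F) *ᵥ v) c := by
  rw [rs, rs, ← mulVec_add, ← stv_conj hf hg, ← stv_conj hf hg, ← stv_conj hf hg]
  group

theorem rs_smul {p v : ι → F} (hv : f v p = 0) (r c : F) :
    rs hf (r • p) v c = rs hf p (r • v) (r * r * c) := gl_ext_vec fun x => by
  rw [rs_mulVec hf h2 (by rw [hf.bilinear.smul_right, hv, mul_zero]),
    rs_mulVec hf h2 (by rw [hf.bilinear.smul_left, hv, mul_zero]), hf.bilinear.smul_right, hf.bilinear.smul_right]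
  module

theorem rs_zero (p : ι → F) (c : F) : rs hf p 0 c = stv hf p c := gl_ext_vec fun x => by
  rw [rs_mulVec hf h2 (zero_left hf p), stv_mulVec, zero_right hf]
  module

theorem rs_one (p : ι → F) : rs hf p 0 0 = 1 := by rw [rs_zero hf h2, stv_zero]

theorem rs_inj {p b v w : ι → F} {c d : F} (hpb : f p b = 1) (hv : f v p = 0) (hw : f w p = 0) (hvb : f v b = 0)
    (hwb : f w b = 0) (h : rs hf p v c = rs hf p w d) : v = w ∧ c = d := by
  have h1 := congrArg (fun g : GL ι F => (g : Matrix ι ι F) *ᵥ b) h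
  simp only [rs_mulVec hf h2 hv, rs_mulVec hf h2 hw, comm h2 hf b v, comm h2 hf b w, hvb, hwb, comm h2 hf b p, hpb,
    zero_smul, add_zero, one_smul, mul_one] at h1
  have h3 : v + c • p = w + d • p := by
    rw [add_assoc, add_assoc] at h1
    exact add_left_cancel h1
  have h4 := congrArg (fun x => f x b) h3
  simp only [hf.bilinear.add_left, hf.bilinear.smul_left, hvb, hwb, hpb, zero_add, mul_one] at h4
  exact ⟨by rw [h4] at h3; exact add_right_cancel h3, h4⟩

/-! ### Graphs -/

omit h2 in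
/-- `φ` picks for every `v` orthogonal to `p` an element of `L` -/
structure Graph (L : Subgroup (GL ι F)) (p : ι → F) (φ : (ι → F) → F) : Prop where
  mem : ∀ v, f v p = 0 → rs hf p v (φ v) ∈ L
  add : ∀ v w, f v p = 0 → f w p = 0 → φ (v + w) = φ v + φ w + f v w

variable {L : Subgroup (GL ι F)} {p : ι → F} {φ : (ι → F) → F}

theorem Graph.zero (hG : Graph hf L p φ) : φ 0 = 0 := by
  have h := hG.add 0 0 (zero_left hf p) (zero_left hf p)
  rw [add_zero, zero_left hf] at h
  linear_combination -h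

theorem Graph.transport (hG : Graph hf L p φ) (hle : L ≤ isoSub f) {g : GL ι F} (hg : g ∈ L) {r : F} (hr : r ≠ 0) :
    Graph hf L (r • ((g : Matrix ι ι F) *ᵥ p))
      (fun v => φ (((g⁻¹ : GL ι F) : Matrix ι ι F) *ᵥ (r • v)) / (r * r)) := by
  have horth : ∀ v, f v (r • ((g : Matrix ι ι F) *ᵥ p)) = 0 →
      f v ((g : Matrix ι ι F) *ᵥ p) = 0 ∧ f (((g⁻¹ : GL ι F) : Matrix ι ι F) *ᵥ (r • v)) p = 0 := by
    intro v hv
    rw [hf.bilinear.smul_right] at hv
    have hv' : f v ((g : Matrix ι ι F) *ᵥ p) = 0 := (mul_eq_zero.1 hv).resolve_left hr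
    refine ⟨hv', ?_⟩
    have h := mem_isoSub.1 (hle hg) (((g⁻¹ : GL ι F) : Matrix ι ι F) *ᵥ (r • v)) p
    rw [gl_mulVec_inv, hf.bilinear.smul_left, hv', mul_zero] at h
    exact h.symm
  refine ⟨fun v hv => ?_, fun v w hv hw => ?_⟩
  · obtain ⟨h1, h3⟩ := horth v hv
    have h4 := L.mul_mem (L.mul_mem hg (hG.mem _ h3)) (L.inv_mem hg)
    rw [rs_conj hf (hle hg), gl_mulVec_inv] at h4
    rw [rs_smul hf h2 h1, mul_div_cancel₀ _ (mul_ne_zero hr hr)]
    exact h4
  · obtain ⟨-, h3⟩ := horth v hv
    obtain ⟨-, h4⟩ := horth w hw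
    rw [smul_add, mulVec_add, hG.add _ _ h3 h4,
      mem_isoSub.1 (inv_mem (hle hg)) (r • v) (r • w), hf.bilinear.smul_left, hf.bilinear.smul_right]
    field_simp

/-- on a line a graph function either has a zero or takes every value -/
theorem Graph.line [Finite F] (hG : Graph hf L p φ) {w : ι → F} (hw : f w p = 0) :
    (∃ r : F, r ≠ 0 ∧ φ (r • w) = 0) ∨ ∀ t, ∃ r : F, φ (r • w) = t := by
  by_cases h : ∃ r : F, r ≠ 0 ∧ φ (r • w) = 0
  · exact Or.inl h
  push Not at h
  refine Or.inr fun t => (Finite.injective_iff_surjective (f := fun r : F => φ (r • w))).1 (fun r s hrs => ?_) t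
  have hm : ∀ a : F, f (a • w) p = 0 := fun a => by rw [hf.bilinear.smul_left, hw, mul_zero]
  have h1 : φ ((r + s) • w) = 0 := by
    rw [add_smul, hG.add _ _ (hm r) (hm s), hf.bilinear.smul_left, hf.bilinear.smul_right, hf.alternating, mul_zero,
      mul_zero, add_zero, show φ (r • w) = φ (s • w) from hrs, add_self_eq h2]
  by_contra hne
  exact h (r + s) (fun h0 => hne (eq_of_add_eq_zero h2 h0)) h1

/-! ### Hyperbolic pairs -/

omit h2 in
/-- the projection onto the orthogonal of a hyperbolic pair -/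
def prj (p b x : ι → F) : ι → F := x + f x b • p + f x p • b

theorem prj_orth {p b : ι → F} (hpb : f p b = 1) (x : ι → F) :
    f (prj (f := f) p b x) p = 0 ∧ f (prj (f := f) p b x) b = 0 := by
  simp only [prj, hf.bilinear.add_left, hf.bilinear.smul_left, hf.alternating, hpb, comm h2 hf b p]
  constructor
  · linear_combination (f x p) * h2
  · linear_combination (f x b) * h2

theorem decomp (p b x : ι → F) : x = prj (f := f) p b x + f x b • p + f x p • b := by
  rw [prj]
  match_scalars
  · ring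
  · linear_combination (-(f x b)) * h2
  · linear_combination (-(f x p)) * h2

theorem f_prj_left {p b w : ι → F} (hwp : f w p = 0) (hwb : f w b = 0) (x : ι → F) :
    f (prj (f := f) p b x) w = f x w := by
  simp only [prj, hf.bilinear.add_left, hf.bilinear.smul_left, swap_zero hf hwp, swap_zero hf hwb, mul_zero, add_zero]

omit h2 in
theorem exists_kernel (p b : ι → F) (S : Submodule F (ι → F))
    (hS : Module.finrank F S + 2 < Fintype.card ι) : ∃ w, f w p = 0 ∧ f w b = 0 ∧ w ∉ S := by
  let A : (ι → F) →ₗ[F] (Fin 2 → F) := LinearMap.pi ![sfun hf p, sfun hf b]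
  have hdim : Fintype.card ι ≤ Module.finrank F (LinearMap.ker A) + 2 := by
    have h1 := LinearMap.finrank_range_add_finrank_ker A
    have h3 : Module.finrank F (LinearMap.range A) ≤ 2 := (Submodule.finrank_le _).trans (by simp)
    rw [Module.finrank_fintype_fun_eq_card] at h1
    omega
  have hnot : ¬ LinearMap.ker A ≤ S := fun hle => by
    have := Submodule.finrank_mono hle
    omega
  obtain ⟨w, hw, hwS⟩ := SetLike.not_le_iff_exists.1 hnot
  have hA : ∀ i, A w i = 0 := fun i => congrFun (LinearMap.mem_ker.1 hw) i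
  exact ⟨w, hA 0, hA 1, hwS⟩

theorem exists_orth {p b : ι → F} (hn : 2 < Fintype.card ι) : ∃ w, f w p = 0 ∧ f w b = 0 ∧ w ≠ 0 := by
  obtain ⟨w, h1, h3, h4⟩ := exists_kernel hf p b ⊥ (by rw [finrank_bot]; omega)
  exact ⟨w, h1, h3, fun h0 => h4 (by rw [h0]; exact Submodule.zero_mem _)⟩

theorem exists_dual_orth {p b u : ι → F} (hpb : f p b = 1) (hup : f u p = 0) (hub : f u b = 0) (hu : u ≠ 0) :
    ∃ w, f w p = 0 ∧ f w b = 0 ∧ f u w = 1 := by
  obtain ⟨x, hx⟩ := (hf.nondegenerate u hu).2
  obtain ⟨h1, h3⟩ := prj_orth hf h2 hpb ((f u x)⁻¹ • x)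
  refine ⟨_, h1, h3, ?_⟩
  rw [comm h2 hf, f_prj_left hf h2 hup hub, hf.bilinear.smul_left, comm h2 hf x u, inv_mul_cancel₀ hx]

end CfsgLib.Perm.Trans.Symp.O2
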