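import Cfsg.Agent.Lib.Perm.Trans.SympO2.Basic

/-!
# A transvection centred at the fixed point gives the whole symplectic group
-/

set_option autoImplicit false
set_option linter.all false

namespace CfsgLib.Perm.Trans.Symp.O2

open scoped Matrix
open Matrix Cfsg.Geo CfsgLib.Perm.Asch CfsgLib.Perm.Trans CfsgLib.Perm.Trans.Symp

variable {ι : Type} [Fintype ι] [DecidableEq ι] {F : Type*} [Field F]
variable {f : (ι → F) → (ι → F) → F} (hf : IsSymplecticForm f) (h2 : (2 : F) = 0)
variable {L : Subgroup (GL ι F)} (hle : L ≤ isoSub f)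
include hf h2 hle

theorem centre_move {g : GL ι F} (hg : g ∈ L) {u : ι → F} (hu : stv hf u 1 ∈ L) :
    stv hf ((g : Matrix ι ι F) *ᵥ u) 1 ∈ L := stv_conj_mem hf hle hg hu

theorem centre_closure {u w : ι → F} (hu : stv hf u 1 ∈ L) (hw : stv hf w 1 ∈ L) :
    stv hf (w + f w u • u) 1 ∈ L := by
  have h := centre_move hf h2 hle hu hw
  rwa [stv_mulVec, one_mul] at h

variable {a b : ι → F} {φ ψ : (ι → F) → F}

/-- a centre orthogonal to `a` and `b` can be shifted along `a` -/
theorem centre_shift (hab : f a b = 1) (hφ : Graph hf L a φ) {e : ι → F} (hea : f e a = 0) (heb : f e b = 0)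
    (he : e ≠ 0) {d : F} (hT : stv hf (e + d • a) 1 ∈ L) (c : F) : stv hf (e + c • a) 1 ∈ L := by
  obtain ⟨w, hwa, hwb, hew⟩ := exists_dual_orth hf h2 hab hea heb he
  have hm : f ((d + c) • w) a = 0 := by rw [hf.bilinear.smul_left, hwa, mul_zero]
  have h := centre_move hf h2 hle (hφ.mem _ hm) hT
  have heq : (rs hf a ((d + c) • w) (φ ((d + c) • w)) : Matrix ι ι F) *ᵥ (e + d • a) = e + c • a := by
    rw [rs_mulVec hf h2 hm]
    simp only [hf.bilinear.add_left, hf.bilinear.smul_left, hf.bilinear.smul_right, hf.alternating, hea, hew,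
      swap_zero hf hwa]
    match_scalars
    · ring
    · linear_combination d * h2
    · ring
  rwa [heq] at h

/-- a centre orthogonal to `a` and `b` can be found -/
theorem exists_centre [Finite F] (hn : 2 < Fintype.card ι) (hab : f a b = 1) (hφ : Graph hf L a φ)
    (hψ : Graph hf L b ψ) {γ δ : F} (hγ : γ ≠ 0) (hδ : δ ≠ 0) (hTa : stv hf (γ • a) 1 ∈ L)
    (hTb : stv hf (δ • b) 1 ∈ L) : ∃ e, f e a = 0 ∧ f e b = 0 ∧ e ≠ 0 ∧ stv hf e 1 ∈ L := by
  obtain ⟨w, hwa, hwb, hw0⟩ := exists_orth hf h2 (p := a) (b := b) hn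
  have hm : ∀ r : F, f (r • w) b = 0 := fun r => by rw [hf.bilinear.smul_left, hwb, mul_zero]
  have hy : ∀ r : F, (rs hf b (r • w) (ψ (r • w)) : Matrix ι ι F) *ᵥ (γ • a) =
      γ • a + γ • (r • w) + (ψ (r • w) * γ) • b := by
    intro r
    rw [rs_mulVec hf h2 (hm r)]
    simp only [hf.bilinear.smul_left, hf.bilinear.smul_right, hab, swap_zero hf hwa]
    module
  obtain ⟨r, hr, hT⟩ : ∃ r : F, r ≠ 0 ∧ stv hf (γ • (r • w) + γ • a) 1 ∈ L := by
    rcases hψ.line hf h2 hwb with ⟨r, hr, h0⟩ | hall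
    · have h := centre_move hf h2 hle (hψ.mem _ (hm r)) hTa
      rw [hy, h0, zero_mul, zero_smul, add_zero, add_comm] at h
      exact ⟨r, hr, h⟩
    · obtain ⟨r, hr⟩ := hall (δ * δ)
      have h := centre_closure hf h2 hle hTb (centre_move hf h2 hle (hψ.mem _ (hm r)) hTa)
      rw [hy, hr] at h
      have heq : γ • a + γ • (r • w) + (δ * δ * γ) • b + f (γ • a + γ • (r • w) + (δ * δ * γ) • b) (δ • b) • (δ • b) =
          γ • (r • w) + γ • a := by
        simp only [hf.bilinear.add_left, hf.bilinear.smul_left, hf.bilinear.smul_right, hab, hwb, hf.alternating]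
        match_scalars
        · ring
        · ring
        · linear_combination (δ * δ * γ) * h2
      rw [heq] at h
      refine ⟨r, fun h0 => hδ ?_, h⟩
      rw [h0, zero_smul, hψ.zero hf h2] at hr
      exact mul_self_eq_zero.1 hr.symm
  have hea : f (γ • (r • w)) a = 0 := by rw [hf.bilinear.smul_left, hf.bilinear.smul_left, hwa, mul_zero, mul_zero]
  have heb : f (γ • (r • w)) b = 0 := by rw [hf.bilinear.smul_left, hm, mul_zero]
  have he : γ • (r • w) ≠ 0 := smul_ne_zero hγ (smul_ne_zero hr hw0)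
  have h := centre_shift hf h2 hle hab hφ hea heb he hT 0
  rw [zero_smul, add_zero] at h
  exact ⟨_, hea, heb, he, h⟩

/-- two proportional centres -/
theorem exists_scaled_centre [Fintype F] (hq : Fintype.card F ≠ 2) (hab : f a b = 1) (hφ : Graph hf L a φ)
    (hψ : Graph hf L b ψ) {δ : F} (hδ : δ ≠ 0) (hTb : stv hf (δ • b) 1 ∈ L) {e : ι → F} (hea : f e a = 0)
    (heb : f e b = 0) (he : e ≠ 0) (hT : stv hf e 1 ∈ L) :
    (∃ s : F, s ≠ 0 ∧ s ≠ 1 ∧ stv hf (s • e) 1 ∈ L) := by
  classical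
  have hba : f b a = 1 := by rw [comm h2 hf, hab]
  have hTae : ∀ c : F, stv hf (e + c • a) 1 ∈ L :=
    centre_shift hf h2 hle hab hφ hea heb he (d := 0) (by rwa [zero_smul, add_zero])
  have hTbe : ∀ c : F, stv hf (e + c • b) 1 ∈ L :=
    centre_shift hf h2 hle hba hψ heb hea he (d := 0) (by rwa [zero_smul, add_zero])
  have hm : ∀ r : F, f (r • e) a = 0 := fun r => by rw [hf.bilinear.smul_left, hea, mul_zero]
  have havoid : ∀ r : F, ∃ μ : F, μ ≠ 0 ∧ 1 + r * μ ≠ 0 ∧ (r ≠ 0 → 1 + r * μ ≠ 1) := by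
    intro r
    obtain ⟨μ, hμ⟩ : ∃ μ : F, μ ∉ ({0, r⁻¹} : Finset F) := by
      by_contra hcon
      push Not at hcon
      have h1 := Finset.card_le_card (s := (Finset.univ : Finset F)) (fun x _ => hcon x)
      have h3 : ({0, r⁻¹} : Finset F).card ≤ 2 := Finset.card_le_two
      rw [Finset.card_univ] at h1
      have h4 := Fintype.one_lt_card (α := F)
      omega
    simp only [Finset.mem_insert, Finset.mem_singleton, not_or] at hμ
    refine ⟨μ, hμ.1, fun h0 => hμ.2 ?_, fun hr h0 => hμ.1 ((mul_eq_zero.1 (add_eq_left.1 h0)).resolve_left hr)⟩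
    have h5 : r * μ = 1 := by linear_combination h0 - h2
    exact eq_inv_of_mul_eq_one_right h5
  rcases hφ.line hf h2 hea with ⟨r, hr, h0⟩ | hall
  · -- `φ` vanishes at `r • e`
    obtain ⟨μ, hμ, hs0, hs1⟩ := havoid r
    have hy : ∀ ν : F, (rs hf a (r • e) (φ (r • e)) : Matrix ι ι F) *ᵥ (e + ν • b) = (1 + r * ν) • e + ν • b := by
      intro ν
      rw [rs_mulVec hf h2 (hm r), h0]
      simp only [hf.bilinear.add_left, hf.bilinear.smul_left, hf.bilinear.smul_right, hf.alternating, hea, hba,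
        swap_zero hf heb]
      match_scalars <;> ring
    have hra : stv hf (r • a) 1 ∈ L := by
      have hA : stv hf (e + r • a) 1 * stv hf e 1 * rs hf a (r • e) (φ (r • e)) ∈ L :=
        L.mul_mem (L.mul_mem (hTae r) hT) (hφ.mem _ (hm r))
      have heq : stv hf (e + r • a) 1 * stv hf e 1 * rs hf a (r • e) (φ (r • e)) = stv hf (r • a) 1 := by
        refine gl_ext_vec fun x => ?_
        rw [gl_mul_mulVec, gl_mul_mulVec, rs_mulVec hf h2 (hm r), stv_mulVec, stv_mulVec, stv_mulVec, h0]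
        simp only [hf.bilinear.add_left, hf.bilinear.smul_left, hf.bilinear.add_right, hf.bilinear.smul_right,
          hf.alternating, hea, swap_zero hf hea]
        match_scalars
        · ring
        · linear_combination (r * f x e) * h2
        · linear_combination (r * f x a + f x e) * h2
      rwa [heq] at hA
    have hrb : stv hf (r⁻¹ • b) 1 ∈ L := by
      have h := centre_move hf h2 hle (hφ.mem _ (hm r)) (hTbe r⁻¹)
      rw [hy] at h
      have h5 : (1 : F) + r * r⁻¹ = 0 := by rw [mul_inv_cancel₀ hr]; linear_combination h2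
      rwa [h5, zero_smul, zero_add] at h
    have h := centre_closure hf h2 hle hra (centre_move hf h2 hle (hφ.mem _ (hm r)) (hTbe μ))
    rw [hy] at h
    have h' := centre_closure hf h2 hle hrb h
    have heq : (1 + r * μ) • e + μ • b + f ((1 + r * μ) • e + μ • b) (r • a) • (r • a) +
        f ((1 + r * μ) • e + μ • b + f ((1 + r * μ) • e + μ • b) (r • a) • (r • a)) (r⁻¹ • b) • (r⁻¹ • b) =
        (1 + r * μ) • e + (r * r * μ) • a := by
      simp only [hf.bilinear.add_left, hf.bilinear.smul_left, hf.bilinear.smul_right, hf.alternating, hea, heb, hba,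
        hab]
      match_scalars
      · ring
      · field_simp; linear_combination (μ * r ^ 2) * h2
      · ring
    rw [heq] at h'
    have hm' : f ((1 + r * μ) • e) a = 0 ∧ f ((1 + r * μ) • e) b = 0 :=
      ⟨hm _, by rw [hf.bilinear.smul_left, heb, mul_zero]⟩
    have h'' := centre_shift hf h2 hle hab hφ hm'.1 hm'.2 (smul_ne_zero hs0 he) h' 0
    rw [zero_smul, add_zero] at h''
    exact ⟨_, hs0, hs1 hr, h''⟩
  · -- `φ` takes every value on the line
    obtain ⟨r, hr⟩ := hall (δ * δ)⁻¹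
    have hr0 : r ≠ 0 := fun h0 => by
      rw [h0, zero_smul, hφ.zero hf h2] at hr
      exact inv_ne_zero (mul_ne_zero hδ hδ) hr.symm
    obtain ⟨μ, hμ, hs0, hs1⟩ := havoid r
    have hy : (rs hf a (r • e) (φ (r • e)) : Matrix ι ι F) *ᵥ (e + μ • b) =
        (1 + r * μ) • e + μ • b + (μ * (δ * δ)⁻¹) • a := by
      rw [rs_mulVec hf h2 (hm r), hr]
      simp only [hf.bilinear.add_left, hf.bilinear.smul_left, hf.bilinear.smul_right, hf.alternating, hea, hba,
        swap_zero hf heb]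
      match_scalars <;> ring
    have h := centre_closure hf h2 hle hTb (centre_move hf h2 hle (hφ.mem _ (hm r)) (hTbe μ))
    rw [hy] at h
    have heq : (1 + r * μ) • e + μ • b + (μ * (δ * δ)⁻¹) • a +
        f ((1 + r * μ) • e + μ • b + (μ * (δ * δ)⁻¹) • a) (δ • b) • (δ • b) =
        (1 + r * μ) • e + (μ * (δ * δ)⁻¹) • a := by
      simp only [hf.bilinear.add_left, hf.bilinear.smul_left, hf.bilinear.smul_right, hf.alternating, heb, hab]
      match_scalars
      · ring
      · field_simp; linear_combination μ * h2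
      · ring
    rw [heq] at h
    have hm' : f ((1 + r * μ) • e) a = 0 ∧ f ((1 + r * μ) • e) b = 0 :=
      ⟨hm _, by rw [hf.bilinear.smul_left, heb, mul_zero]⟩
    have h'' := centre_shift hf h2 hle hab hφ hm'.1 hm'.2 (smul_ne_zero hs0 he) h 0
    rw [zero_smul, add_zero] at h''
    exact ⟨_, hs0, hs1 hr0, h''⟩

/-- the whole transvection group at `a` lies in `L` -/
theorem centre_full [Fintype F] (hn : 2 < Fintype.card ι) (hab : f a b = 1) (hφ : Graph hf L a φ)
    (hψ : Graph hf L b ψ) {γ δ : F} (hγ : γ ≠ 0) (hδ : δ ≠ 0) (hTa : stv hf (γ • a) 1 ∈ L)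
    (hTb : stv hf (δ • b) 1 ∈ L) (c : F) : stv hf (c • a) 1 ∈ L := by
  by_cases hq : Fintype.card F = 2
  · classical
    rcases eq_or_ne c 0 with rfl | hc
    · rw [zero_smul, stv_zero_left]; exact L.one_mem
    · have : c = γ := by
        by_contra hne
        have h1 : ({0, c, γ} : Finset F).card = 3 := by
          rw [Finset.card_insert_of_notMem (by simp [Ne.symm hc, Ne.symm hγ]),
            Finset.card_insert_of_notMem (by simp [hne]), Finset.card_singleton]
        have h3 := Finset.card_le_univ ({0, c, γ} : Finset F)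
        omega
      rw [this]; exact hTa
  obtain ⟨e, hea, heb, he, hT⟩ := exists_centre hf h2 hle hn hab hφ hψ hγ hδ hTa hTb
  obtain ⟨s, hs0, hs1, hTs⟩ := exists_scaled_centre hf h2 hle hq hab hφ hψ hδ hTb hea heb he hT
  have hs : (1 : F) + (s⁻¹) ^ 2 ≠ 0 := fun h0 => hs1 (by
    have h1 : (s⁻¹) ^ 2 = 1 ^ 2 := by linear_combination h0 - h2
    exact inv_eq_one.1 (sq_inj h2 h1))
  obtain ⟨x, hx⟩ := exists_sq h2 (c ^ 2 / (1 + (s⁻¹) ^ 2))
  have hea' : f (s • e) a = 0 := by rw [hf.bilinear.smul_left, hea, mul_zero]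
  have heb' : f (s • e) b = 0 := by rw [hf.bilinear.smul_left, heb, mul_zero]
  have h1 := centre_shift hf h2 hle hab hφ hea heb he (d := 0) (by rwa [zero_smul, add_zero]) x
  have h3 := centre_shift hf h2 hle hab hφ hea' heb' (smul_ne_zero hs0 he) (d := 0)
    (by rwa [zero_smul, add_zero]) (x * s⁻¹)
  have hA := L.mul_mem (L.mul_mem h1 hT) (L.mul_mem h3 hTs)
  have heq : stv hf (e + x • a) 1 * stv hf e 1 * (stv hf (s • e + (x * s⁻¹) • a) 1 * stv hf (s • e) 1) =
      stv hf (c • a) 1 := by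
    refine gl_ext_vec fun z => ?_
    rw [gl_mul_mulVec, gl_mul_mulVec, gl_mul_mulVec]
    simp only [stv_mulVec, hf.bilinear.add_left, hf.bilinear.smul_left, hf.bilinear.add_right, hf.bilinear.smul_right,
      hf.alternating, hea, swap_zero hf hea, mul_zero, add_zero, zero_add, one_mul]
    have hc2 : c ^ 2 = x ^ 2 * (1 + (s⁻¹) ^ 2) := by rw [hx, div_mul_cancel₀ _ hs]
    match_scalars
    · ring
    · field_simp
      linear_combination (f z e + s ^ 2 * f z e + x * f z a) * h2
    · field_simp at hc2 ⊢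
      linear_combination (s ^ 2 * f z e * x) * h2 - (f z a) * hc2
  rwa [heq] at hA

/-- a transvection centred at the orbit of `a` gives the whole group -/
theorem eq_isoSub_of_centre [Fintype F] (hn : 2 < Fintype.card ι) (hφ : Graph hf L a φ) {g : GL ι F} (hg : g ∈ L)
    (hga : f a ((g : Matrix ι ι F) *ᵥ a) ≠ 0) {c : F} (hc : c ≠ 0) (hcL : stv hf a c ∈ L) : L = isoSub f := by
  obtain ⟨γ, hγ⟩ := exists_sq h2 c
  have hγ0 : γ ≠ 0 := fun h0 => hc (by rw [← hγ, h0]; ring)
  have hTa : stv hf (γ • a) 1 ∈ L := by rwa [stv_smul, mul_one, ← sq, hγ]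
  obtain ⟨m, hm⟩ : ∃ m, m = f a ((g : Matrix ι ι F) *ᵥ a) := ⟨_, rfl⟩
  have hm0 : m ≠ 0 := hm ▸ hga
  obtain ⟨b, hb⟩ : ∃ b, b = m⁻¹ • ((g : Matrix ι ι F) *ᵥ a) := ⟨_, rfl⟩
  have hab : f a b = 1 := by rw [hb, hf.bilinear.smul_right, ← hm, inv_mul_cancel₀ hm0]
  have hba : f b a = 1 := by rw [comm h2 hf, hab]
  obtain ⟨ψ, hψ⟩ : ∃ ψ, Graph hf L b ψ := ⟨_, hb ▸ hφ.transport hf h2 hle hg (inv_ne_zero hm0)⟩
  have hTb : stv hf ((γ * m) • b) 1 ∈ L := by
    have h := centre_move hf h2 hle hg hTa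
    rwa [mulVec_smul, show (g : Matrix ι ι F) *ᵥ a = m • b by rw [hb, smul_smul, mul_inv_cancel₀ hm0, one_smul],
      smul_smul] at h
  have hA := centre_full hf h2 hle hn hab hφ hψ hγ0 (mul_ne_zero hγ0 hm0) hTa hTb
  have hB := centre_full hf h2 hle hn hba hψ hφ (mul_ne_zero hγ0 hm0) hγ0 hTb hTa
  have hplane : ∀ α β : F, stv hf (α • a + β • b) 1 ∈ L := by
    intro α β
    rcases eq_or_ne α 0 with rfl | hα
    · rw [zero_smul, zero_add]; exact hB β
    obtain ⟨t, ht⟩ := exists_sq h2 (β / α)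
    have h := centre_closure hf h2 hle (hB t) (hA α)
    rwa [hf.bilinear.smul_left, hf.bilinear.smul_right, hab, mul_one, smul_smul, mul_assoc, ← sq, ht,
      mul_div_cancel₀ _ hα] at h
  have hlevel : ∀ (p q : ι → F) (χ : (ι → F) → F), Graph hf L p χ → f p q = 1 →
      (∀ α β : F, stv hf (α • p + β • q) 1 ∈ L) → ∀ u, f u p ≠ 0 → stv hf u 1 ∈ L := by
    intro p q χ hχ hpq hP u hu
    obtain ⟨hvp, hvq⟩ := prj_orth hf h2 hpq u
    obtain ⟨v, hv⟩ : ∃ v, v = prj (f := f) p q u := ⟨_, rfl⟩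
    rw [← hv] at hvp hvq
    have hwp : f ((f u p)⁻¹ • v) p = 0 := by rw [hf.bilinear.smul_left, hvp, mul_zero]
    have hR := hχ.mem _ hwp
    obtain ⟨R, hRdef⟩ : ∃ R, R = rs hf p ((f u p)⁻¹ • v) (χ ((f u p)⁻¹ • v)) := ⟨_, rfl⟩
    rw [← hRdef] at hR
    have hRu : (R : Matrix ι ι F) *ᵥ u =
        (f u q + f u ((f u p)⁻¹ • v) + χ ((f u p)⁻¹ • v) * f u p) • p + f u p • q := by
      rw [hRdef, rs_mulVec hf h2 hwp, smul_smul, mul_inv_cancel₀ hu, one_smul]
      nth_rewrite 1 [decomp hf h2 p q u]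
      rw [← hv]
      match_scalars
      · linear_combination h2
      · ring
      · ring
    have h0 := hP (f u q + f u ((f u p)⁻¹ • v) + χ ((f u p)⁻¹ • v) * f u p) (f u p)
    rw [← hRu] at h0
    have h := centre_move hf h2 hle (L.inv_mem hR) h0
    rwa [gl_inv_mulVec] at h
  have hall : ∀ u, stv hf u 1 ∈ L := by
    intro u
    by_cases hua : f u a = 0
    swap
    · exact hlevel a b φ hφ hab hplane u hua
    by_cases hub : f u b = 0
    swap
    · exact hlevel b a ψ hψ hba (fun α β => by rw [add_comm]; exact hplane β α) u hub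
    rcases eq_or_ne u 0 with rfl | hu
    · rw [stv_zero_left]; exact L.one_mem
    obtain ⟨w, hwa, hwb, huw⟩ := exists_dual_orth hf h2 hab hua hub hu
    have hR := hφ.mem _ hwa
    obtain ⟨R, hRdef⟩ : ∃ R, R = rs hf a w (φ w) := ⟨_, rfl⟩
    rw [← hRdef] at hR
    have hRu : (R : Matrix ι ι F) *ᵥ u = u + a := by
      rw [hRdef, rs_mulVec hf h2 hwa, hua, huw]
      module
    have h1 : stv hf (u + a) 1 ∈ L := hlevel b a ψ hψ hba (fun α β => by rw [add_comm]; exact hplane β α) _
      (by rw [hf.bilinear.add_left, hub, hab, zero_add]; exact one_ne_zero)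
    have h := centre_move hf h2 hle (L.inv_mem hR) h1
    rwa [← hRu, gl_inv_mulVec] at h
  refine eq_isoSub hf hle fun u t => ?_
  obtain ⟨s, hs⟩ := exists_sq h2 t
  have h := hall (s • u)
  rwa [stv_smul, mul_one, ← sq, hs] at h

end CfsgLib.Perm.Trans.Symp.O2
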