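import Cfsg.Agent.Lib.Perm.Trans.SympO2.Basic

/-!
# The graph function on the orbit, perpendicular points
-/

set_option autoImplicit false
set_option linter.all false

namespace CfsgLib.Perm.Trans.Symp.O2

open scoped Matrix
open Matrix Cfsg.Geo CfsgLib.Perm.Asch CfsgLib.Perm.Trans CfsgLib.Perm.Trans.Symp

variable {ι : Type} [Fintype ι] [DecidableEq ι] {F : Type*} [Field F]
variable {f : (ι → F) → (ι → F) → F} (hf : IsSymplecticForm f)

/-- no transvection centred at `a` lies in `L`, and the radical meets `L` in a graph -/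
structure Setup (L : Subgroup (GL ι F)) (a : ι → F) (φ : (ι → F) → F) : Prop where
  le : L ≤ isoSub f
  graph : Graph hf L a φ
  clean : ∀ c : F, c ≠ 0 → stv hf a c ∉ L

/-- scalar multiples of the orbit of `a` -/
def InS (L : Subgroup (GL ι F)) (a p : ι → F) : Prop :=
  ∃ g ∈ L, ∃ r : F, r ≠ 0 ∧ p = r • ((g : Matrix ι ι F) *ᵥ a)

/-- the graph function at `p` -/
noncomputable def Phi (L : Subgroup (GL ι F)) (p v : ι → F) : F :=
  open scoped _root_.Classical in if h : ∃ c, rs hf p v c ∈ L then h.choose else 0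

/-- the graph functions vanish on perpendicular points of the orbit -/
def PerpZero (L : Subgroup (GL ι F)) (a : ι → F) : Prop :=
  ∀ p c, InS L a p → InS L a c → f p c = 0 → Phi hf L p c = 0

theorem InS.self {L : Subgroup (GL ι F)} {a : ι → F} : InS L a a :=
  ⟨1, L.one_mem, 1, one_ne_zero, by rw [Units.val_one, one_mulVec, one_smul]⟩

theorem InS.move {L : Subgroup (GL ι F)} {a p : ι → F} (hp : InS L a p) {g : GL ι F} (hg : g ∈ L) :
    InS L a ((g : Matrix ι ι F) *ᵥ p) := by
  obtain ⟨k, hk, r, hr, rfl⟩ := hp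
  exact ⟨g * k, L.mul_mem hg hk, r, hr, by rw [mulVec_smul, gl_mul_mulVec]⟩

theorem InS.smul {L : Subgroup (GL ι F)} {a p : ι → F} (hp : InS L a p) {t : F} (ht : t ≠ 0) : InS L a (t • p) := by
  obtain ⟨k, hk, r, hr, rfl⟩ := hp
  exact ⟨k, hk, t * r, mul_ne_zero ht hr, by rw [smul_smul]⟩

variable (h2 : (2 : F) = 0)
variable {L : Subgroup (GL ι F)} {a : ι → F} {φ : (ι → F) → F} (hS : Setup hf L a φ)
include hf h2 hS

theorem clean_at {p : ι → F} (hp : InS L a p) {c : F} (hc : c ≠ 0) : stv hf p c ∉ L := by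
  obtain ⟨g, hg, r, hr, rfl⟩ := hp
  intro h
  rw [stv_smul, ← stv_conj hf (hS.le hg)] at h
  refine hS.clean _ (mul_ne_zero (mul_ne_zero hr hr) hc) ?_
  have h' := L.mul_mem (L.mul_mem (L.inv_mem hg) h) hg
  rwa [show g⁻¹ * (g * stv hf a (r * r * c) * g⁻¹) * g = stv hf a (r * r * c) by group] at h'

theorem Phi_spec {p v : ι → F} (hp : InS L a p) (hv : f v p = 0) : rs hf p v (Phi hf L p v) ∈ L := by
  obtain ⟨g, hg, r, hr, hpe⟩ := hp
  have hG : Graph hf L p _ := hpe ▸ hS.graph.transport hf h2 hS.le hg hr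
  have h : ∃ c, rs hf p v c ∈ L := ⟨_, hG.mem v hv⟩
  rw [Phi, dif_pos h]
  exact h.choose_spec

theorem Phi_eq {p v : ι → F} (hp : InS L a p) (hv : f v p = 0) {c : F} (h : rs hf p v c ∈ L) :
    Phi hf L p v = c := by
  have h' := L.mul_mem (Phi_spec hf h2 hS hp hv) h
  rw [rs_mul hf h2 hv hv, vadd_self h2, hf.alternating, add_zero, rs_zero hf h2] at h'
  exact eq_of_add_eq_zero h2 (by by_contra hne; exact clean_at hf h2 hS hp hne h')

theorem Phi_graph {p : ι → F} (hp : InS L a p) : Graph hf L p (Phi hf L p) := by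
  refine ⟨fun v hv => Phi_spec hf h2 hS hp hv, fun v w hv hw => Phi_eq hf h2 hS hp ?_ ?_⟩
  · rw [hf.bilinear.add_left, hv, hw, add_zero]
  · rw [← rs_mul hf h2 hv hw]
    exact L.mul_mem (Phi_spec hf h2 hS hp hv) (Phi_spec hf h2 hS hp hw)

theorem Phi_mod {p v : ι → F} (hp : InS L a p) (hv : f v p = 0) (t : F) :
    Phi hf L p (v + t • p) = Phi hf L p v := by
  refine Phi_eq hf h2 hS hp ?_ ?_
  · rw [hf.bilinear.add_left, hf.bilinear.smul_left, hf.alternating, hv, mul_zero, add_zero]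
  · rw [rs_mod hf h2 hv]
    exact Phi_spec hf h2 hS hp hv

theorem Phi_self {p : ι → F} (hp : InS L a p) (t : F) : Phi hf L p (t • p) = 0 := by
  have h := Phi_mod hf h2 hS hp (zero_left hf p) t
  rwa [zero_add, (Phi_graph hf h2 hS hp).zero hf h2] at h

theorem Phi_move {p v : ι → F} (hp : InS L a p) (hv : f v p = 0) {g : GL ι F} (hg : g ∈ L) :
    Phi hf L ((g : Matrix ι ι F) *ᵥ p) ((g : Matrix ι ι F) *ᵥ v) = Phi hf L p v := by
  refine Phi_eq hf h2 hS (hp.move hg) ?_ ?_
  · rw [mem_isoSub.1 (hS.le hg), hv]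
  · rw [← rs_conj hf (hS.le hg)]
    exact L.mul_mem (L.mul_mem hg (Phi_spec hf h2 hS hp hv)) (L.inv_mem hg)

theorem Phi_smul {p v : ι → F} (hp : InS L a p) (hv : f v p = 0) {t : F} (ht : t ≠ 0) :
    Phi hf L (t • p) v = Phi hf L p (t • v) / (t * t) := by
  have hv' : f (t • v) p = 0 := by rw [hf.bilinear.smul_left, hv, mul_zero]
  refine Phi_eq hf h2 hS (hp.smul ht) (by rw [hf.bilinear.smul_right, hv, mul_zero]) ?_
  rw [rs_smul hf h2 hv, mul_div_cancel₀ _ (mul_ne_zero ht ht)]
  exact Phi_spec hf h2 hS hp hv'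

theorem exists_pairing {p : ι → F} {u : ι → F} (hu : u ∉ Submodule.span F ({p} : Set (ι → F))) (t : F) :
    ∃ v, f v p = 0 ∧ f v u = t := by
  obtain ⟨χ, hχu, hχ⟩ := exists_dual _ hu
  obtain ⟨v, hv⟩ := exists_rep hf χ
  refine ⟨t • v, ?_, ?_⟩
  · rw [hf.bilinear.smul_left, comm h2 hf, hv, hχ p (Submodule.mem_span_singleton_self p), mul_zero]
  · rw [hf.bilinear.smul_left, comm h2 hf, hv, hχu, mul_one]

/-- the product of the two elements of a perpendicular pair -/
theorem pair_elem {p c : ι → F} (hpc : f p c = 0) (α β : F) :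
    rs hf p c α * rs hf c p β = stv hf p α * stv hf c β := gl_ext_vec fun x => by
  have hcp := swap_zero hf hpc
  rw [gl_mul_mulVec, gl_mul_mulVec, rs_mulVec hf h2 hcp, rs_mulVec hf h2 hpc, stv_mulVec, stv_mulVec]
  simp only [hf.bilinear.add_left, hf.bilinear.smul_left, hf.alternating, hpc, hcp]
  match_scalars
  · ring
  · linear_combination (f x p) * h2
  · linear_combination (f x c) * h2

/-- two perpendicular points with nonzero value -/
theorem perp_values {p c : ι → F} (hp : InS L a p) (hc : InS L a c) (hpc : f p c = 0)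
    (hind : c ∉ Submodule.span F ({p} : Set (ι → F))) (hα : Phi hf L p c ≠ 0) :
    Phi hf L c p ≠ 0 ∧ stv hf p (Phi hf L p c) * stv hf c (Phi hf L c p) ∈ L ∧
      ∀ μ : F, Phi hf L p (μ • c) = μ ^ 2 / Phi hf L c p := by
  have hcp := swap_zero hf hpc
  obtain ⟨α, hαd⟩ : ∃ α, α = Phi hf L p c := ⟨_, rfl⟩
  obtain ⟨β, hβd⟩ : ∃ β, β = Phi hf L c p := ⟨_, rfl⟩
  have hD : stv hf p α * stv hf c β ∈ L := by
    rw [← pair_elem hf h2 hS hpc, hαd, hβd]
    exact L.mul_mem (Phi_spec hf h2 hS hp hcp) (Phi_spec hf h2 hS hc hpc)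
  rw [← hαd] at hα ⊢
  rw [← hβd]
  have hβ : β ≠ 0 := fun h0 => by
    rw [h0, stv_zero, mul_one] at hD
    exact clean_at hf h2 hS hp hα hD
  refine ⟨hβ, hD, fun μ => ?_⟩
  obtain ⟨v, hvp, hvc⟩ := exists_pairing hf h2 hS hind (μ / β)
  have h := Phi_move hf h2 hS hp hvp hD
  have e1 : ((stv hf p α * stv hf c β : GL ι F) : Matrix ι ι F) *ᵥ p = p := by
    rw [gl_mul_mulVec, stv_mulVec hf c, hpc, mul_zero, zero_smul, add_zero, stv_mulVec hf p, hf.alternating,
      mul_zero, zero_smul, add_zero]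
  have e2 : ((stv hf p α * stv hf c β : GL ι F) : Matrix ι ι F) *ᵥ v = v + μ • c := by
    rw [gl_mul_mulVec, stv_mulVec hf c, stv_mulVec hf p, hf.bilinear.add_left, hf.bilinear.smul_left, hvp, hcp,
      mul_zero, add_zero, mul_zero, zero_smul, add_zero, hvc, mul_div_cancel₀ _ hβ]
  rw [e1, e2, (Phi_graph hf h2 hS hp).add _ _ hvp (by rw [hf.bilinear.smul_left, hcp, mul_zero]),
    hf.bilinear.smul_right, hvc] at h
  have h' : Phi hf L p (μ • c) + μ ^ 2 / β = 0 := by linear_combination h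
  exact eq_of_add_eq_zero h2 h'

/-- perpendicular points have value zero, except possibly in dimension four over two elements -/
theorem perpZero_or [Fintype F] : PerpZero hf L a ∨
    (Fintype.card F = 2 ∧ Fintype.card ι ≤ 4 ∧ ∃ p c, InS L a p ∧ InS L a c ∧ f p c = 0 ∧
      c ∉ Submodule.span F ({p} : Set (ι → F)) ∧ stv hf p 1 * stv hf c 1 ∈ L) := by
  by_cases hall : PerpZero hf L a
  · exact Or.inl hall
  refine Or.inr ?_
  simp only [PerpZero, not_forall] at hall
  obtain ⟨p, c, hp, hc, hpc, hne⟩ := hall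
  have hcp := swap_zero hf hpc
  have hind : c ∉ Submodule.span F ({p} : Set (ι → F)) := fun h => by
    obtain ⟨t, rfl⟩ := Submodule.mem_span_singleton.1 h
    exact hne (Phi_self hf h2 hS hp t)
  have hp0 : p ≠ 0 := fun h0 => by
    obtain ⟨v, -, hv⟩ := exists_pairing hf h2 hS hind 1
    refine hne ?_
    have h := clean_at hf h2 hS hp (c := 1) one_ne_zero
    rw [h0, stv_zero_left] at h
    exact absurd L.one_mem h
  have hind' : p ∉ Submodule.span F ({c} : Set (ι → F)) := fun h => by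
    obtain ⟨t, ht⟩ := Submodule.mem_span_singleton.1 h
    have ht0 : t ≠ 0 := fun h0 => hp0 (by rw [← ht, h0, zero_smul])
    exact hind (Submodule.mem_span_singleton.2 ⟨t⁻¹, by rw [← ht, smul_smul, inv_mul_cancel₀ ht0, one_smul]⟩)
  obtain ⟨hβ, hD, hrule⟩ := perp_values hf h2 hS hp hc hpc hind hne
  obtain ⟨-, -, hrule'⟩ := perp_values hf h2 hS hc hp hcp hind' hβ
  have hαβ : Phi hf L p c = 1 / Phi hf L c p := by have h := hrule 1; rwa [one_smul, one_pow] at h
  have hone : ∀ t : F, t ≠ 0 → t = 1 := by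
    intro t ht
    have hc' := hc.smul ht
    have hpc' : f p (t • c) = 0 := by rw [hf.bilinear.smul_right, hpc, mul_zero]
    have hne' : Phi hf L p (t • c) ≠ 0 := by rw [hrule]; exact div_ne_zero (pow_ne_zero 2 ht) hβ
    have hind2 : t • c ∉ Submodule.span F ({p} : Set (ι → F)) := fun h =>
      hind ((Submodule.smul_mem_iff _ ht).1 h)
    obtain ⟨-, -, hrule2⟩ := perp_values hf h2 hS hp hc' hpc' hind2 hne'
    have h1 := hrule2 1
    rw [one_smul, hrule, Phi_smul hf h2 hS hc hpc ht, hrule', hαβ] at h1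
    have h3 : t ^ 2 = 1 ^ 2 := by field_simp at h1; linear_combination h1
    exact sq_inj h2 h3
  have hq : Fintype.card F = 2 := by
    classical
    have huniv : (Finset.univ : Finset F) = {0, 1} := by
      refine Finset.ext fun x => ?_
      simp only [Finset.mem_univ, Finset.mem_insert, Finset.mem_singleton, true_iff]
      rcases eq_or_ne x 0 with h | h
      · exact Or.inl h
      · exact Or.inr (hone x h)
    rw [← Finset.card_univ, huniv, Finset.card_insert_of_notMem (by simp), Finset.card_singleton]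
  have hα1 := hone _ hne
  have hβ1 := hone _ hβ
  rw [hα1, hβ1] at hD
  refine ⟨hq, ?_, p, c, hp, hc, hpc, hind, hD⟩
  by_contra hbig
  push Not at hbig
  have hfin : Module.finrank F (Submodule.span F ({p, c} : Set (ι → F))) ≤ 2 := by
    classical
    have h := finrank_span_finset_le_card (R := F) ({p, c} : Finset (ι → F))
    rw [Finset.coe_insert, Finset.coe_singleton] at h
    exact le_trans h Finset.card_le_two
  obtain ⟨z, hzp, hzc, hz⟩ := exists_kernel hf p c (Submodule.span F ({p, c} : Set (ι → F))) (by omega)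
  obtain ⟨χ, hχz, hχ⟩ := exists_dual _ hz
  obtain ⟨v, hv⟩ := exists_rep hf χ
  have hvp : f v p = 0 := by rw [comm h2 hf, hv, hχ p (Submodule.subset_span (by simp))]
  have hvc : f v c = 0 := by rw [comm h2 hf, hv, hχ c (Submodule.subset_span (by simp))]
  have hvz : f v z = 1 := by rw [comm h2 hf, hv, hχz]
  have h := Phi_move hf h2 hS hp hvp (Phi_spec hf h2 hS hc hzc)
  rw [rs_mulVec hf h2 hzc, rs_mulVec hf h2 hzc, hpc, swap_zero hf hzp, hvc, hvz, mul_zero, zero_smul, zero_smul,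
    one_smul, add_zero, add_zero, add_zero, add_zero, add_zero, (Phi_graph hf h2 hS hp).add _ _ hvp hcp, hvc, hα1, add_zero] at h
  exact one_ne_zero (add_eq_left.1 h)

end CfsgLib.Perm.Trans.Symp.O2
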