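import Cfsg.Agent.Lib.Perm.Trans.SympO2.Perp
import Mathlib.LinearAlgebra.QuadraticForm.Basic

/-!
# The invariant quadratic form

When the graph functions vanish on perpendicular points of the orbit, the graph function at `p` is a quadratic
form on the orthogonal of a hyperbolic pair `p, b` and extends to a form preserved by the whole group.
-/

set_option autoImplicit false
set_option linter.all false

namespace CfsgLib.Perm.Trans.Symp.O2

open scoped Matrix
open Matrix Cfsg.Geo CfsgLib.Perm.Asch CfsgLib.Perm.Trans CfsgLib.Perm.Trans.Symp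

variable {ι : Type} [Fintype ι] [DecidableEq ι] {F : Type*} [Field F]
variable {f : (ι → F) → (ι → F) → F} (hf : IsSymplecticForm f)

/-- a hyperbolic pair inside the orbit -/
structure Pair (f : (ι → F) → (ι → F) → F) (L : Subgroup (GL ι F)) (a p b : ι → F) : Prop where
  hp : InS L a p
  hb : InS L a b
  hpb : f p b = 1

/-- the element exchanging the lines of `p` and `b` -/
def swapEl (p b v : ι → F) (τ : F) : GL ι F := rs hf p v τ * rs hf b (τ⁻¹ • v) τ⁻¹ * rs hf p v τ

variable (h2 : (2 : F) = 0)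
include hf h2

theorem swapEl_apply {p b v : ι → F} {τ : F} (hτ : τ ≠ 0) (hpb : f p b = 1) (hvp : f v p = 0) (hvb : f v b = 0) :
    (swapEl hf p b v τ : Matrix ι ι F) *ᵥ p = τ⁻¹ • b ∧ (swapEl hf p b v τ : Matrix ι ι F) *ᵥ b = τ • p ∧
      ∀ z, f z p = 0 → f z b = 0 → f z v = 0 → (swapEl hf p b v τ : Matrix ι ι F) *ᵥ z = z := by
  have hbp : f b p = 1 := by rw [comm h2 hf, hpb]
  have hv' : f (τ⁻¹ • v) b = 0 := by rw [hf.bilinear.smul_left, hvb, mul_zero]
  refine ⟨?_, ?_, fun z hzp hzb hzv => ?_⟩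
  all_goals
    rw [swapEl, gl_mul_mulVec, gl_mul_mulVec, rs_mulVec hf h2 hvp, rs_mulVec hf h2 hv', rs_mulVec hf h2 hvp]
    simp only [hf.bilinear.add_left, hf.bilinear.smul_left, hf.bilinear.add_right, hf.bilinear.smul_right,
      hf.alternating, hpb, hbp, hvp, hvb, swap_zero hf hvp, swap_zero hf hvb]
  · match_scalars
    · linear_combination h2 + mul_inv_cancel₀ hτ
    · field_simp; linear_combination h2
    · ring
  · match_scalars
    · field_simp; linear_combination τ * h2
    · field_simp; linear_combination τ ^ 2 * h2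
    · field_simp; linear_combination (2 * τ) * h2
  · simp only [hzp, hzb, hzv, mul_zero, zero_mul, add_zero, zero_smul, smul_zero]

theorem Pair.symm {L : Subgroup (GL ι F)} {a p b : ι → F} (P : Pair f L a p b) : Pair f L a b p :=
  ⟨P.hb, P.hp, by rw [comm h2 hf]; exact P.hpb⟩

variable {L : Subgroup (GL ι F)} {a : ι → F} {φ : (ι → F) → F} (hS : Setup hf L a φ) (hz : PerpZero hf L a)
include hS hz

variable {p b : ι → F}

theorem zero_swap (P : Pair f L a p b) {u : ι → F} (hup : f u p = 0) (hub : f u b = 0)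
    (h0 : Phi hf L b u = 0) : Phi hf L p u = 0 := by
  have hm := P.hp.move (Phi_spec hf h2 hS P.hb hub)
  rw [rs_mulVec hf h2 hub, h0, P.hpb, swap_zero hf hup, zero_mul, zero_smul, one_smul, add_zero,
    add_zero] at hm
  have h := hz p (p + u) P.hp hm (by rw [hf.bilinear.add_right, hf.alternating, swap_zero hf hup, add_zero])
  rwa [add_comm, show u + p = u + (1 : F) • p by rw [one_smul], Phi_mod hf h2 hS P.hp hup] at h

theorem cone (P : Pair f L a p b) {u : ι → F} (hup : f u p = 0) (hub : f u b = 0)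
    (h0 : Phi hf L p u = 0) (μ : F) : Phi hf L p (μ • u) = 0 := by
  rcases eq_or_ne μ 0 with rfl | hμ
  · rw [zero_smul]; exact (Phi_graph hf h2 hS P.hp).zero hf h2
  have hm := P.hb.move (Phi_spec hf h2 hS P.hp hup)
  rw [rs_mulVec hf h2 hup, h0, (P.symm hf h2).hpb, swap_zero hf hub, zero_mul, zero_smul, one_smul,
    add_zero, add_zero] at hm
  have h := hz b (μ • (b + u)) P.hb (hm.smul hμ) (by
    rw [hf.bilinear.smul_right, hf.bilinear.add_right, hf.alternating, swap_zero hf hub, add_zero, mul_zero])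
  rw [smul_add, add_comm, Phi_mod hf h2 hS P.hb (by rw [hf.bilinear.smul_left, hub, mul_zero])] at h
  exact zero_swap hf h2 hS hz P (by rw [hf.bilinear.smul_left, hup, mul_zero])
    (by rw [hf.bilinear.smul_left, hub, mul_zero]) h

theorem value_line [Finite F] (P : Pair f L a p b) {u : ι → F} (hup : f u p = 0) (hub : f u b = 0)
    (h0 : Phi hf L p u ≠ 0) (t : F) : ∃ r : F, Phi hf L p (r • u) = t := by
  rcases (Phi_graph hf h2 hS P.hp).line hf h2 hup with ⟨r, hr, hr0⟩ | hall
  · refine absurd ?_ h0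
    have h := cone hf h2 hS hz P (u := r • u) (by rw [hf.bilinear.smul_left, hup, mul_zero])
      (by rw [hf.bilinear.smul_left, hub, mul_zero]) hr0 r⁻¹
    rwa [smul_smul, inv_mul_cancel₀ hr, one_smul] at h
  · exact hall t

theorem surj [Finite F] (P : Pair f L a p b) (hn : 2 < Fintype.card ι) (t : F) :
    ∃ u, f u p = 0 ∧ f u b = 0 ∧ Phi hf L p u = t := by
  obtain ⟨u, hup, hub, hu⟩ := exists_orth hf h2 (p := p) (b := b) hn
  obtain ⟨w, hwp, hwb, huw⟩ := exists_dual_orth hf h2 P.hpb hup hub hu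
  have hadd := (Phi_graph hf h2 hS P.hp).add u w hup hwp
  rw [huw] at hadd
  obtain ⟨x, hxp, hxb, hx⟩ : ∃ x, f x p = 0 ∧ f x b = 0 ∧ Phi hf L p x ≠ 0 := by
    by_contra hcon
    push Not at hcon
    rw [hcon u hup hub, hcon w hwp hwb, hcon (u + w) (by rw [hf.bilinear.add_left, hup, hwp, add_zero])
      (by rw [hf.bilinear.add_left, hub, hwb, add_zero]), zero_add, zero_add] at hadd
    exact zero_ne_one hadd
  obtain ⟨r, hr⟩ := value_line hf h2 hS hz P hxp hxb hx t
  exact ⟨r • x, by rw [hf.bilinear.smul_left, hxp, mul_zero], by rw [hf.bilinear.smul_left, hxb, mul_zero], hr⟩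

/-- `b` is the only point of the orbit on the line `b + F p` -/
theorem unique [Finite F] (P : Pair f L a p b) (hn : 2 < Fintype.card ι) {κ : F}
    (hm : InS L a (b + κ • p)) : κ = 0 := by
  obtain ⟨u, hup, hub, hu⟩ := surj hf h2 hS hz P hn κ
  have hb' := P.hb.move (Phi_spec hf h2 hS P.hp hup)
  rw [rs_mulVec hf h2 hup, hu, (P.symm hf h2).hpb, swap_zero hf hub, zero_smul, one_smul, mul_one, add_zero] at hb'
  obtain ⟨c, hc⟩ : ∃ c, c = b + κ • p := ⟨_, rfl⟩
  rw [← hc] at hm
  have huc : f u c = 0 := by rw [hc, hf.bilinear.add_right, hf.bilinear.smul_right, hub, hup, mul_zero, add_zero]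
  have heq : b + u + κ • p = u + (1 : F) • c := by rw [hc, one_smul]; abel
  rw [heq] at hb'
  have h0 := hz c _ hm hb' (by rw [hf.bilinear.add_right, hf.bilinear.smul_right, hf.alternating, swap_zero hf huc,
    mul_zero, add_zero])
  rw [Phi_mod hf h2 hS hm huc] at h0
  have hp' := P.hp.move (Phi_spec hf h2 hS hm huc)
  have hpc : f p c = 1 := by rw [hc, hf.bilinear.add_right, hf.bilinear.smul_right, hf.alternating, P.hpb, mul_zero,
    add_zero]
  rw [rs_mulVec hf h2 huc, h0, hpc, swap_zero hf hup, zero_mul, zero_smul, one_smul, add_zero,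
    add_zero] at hp'
  have h := hz p (p + u) P.hp hp' (by rw [hf.bilinear.add_right, hf.alternating, swap_zero hf hup, add_zero])
  rw [add_comm, show u + p = u + (1 : F) • p by rw [one_smul], Phi_mod hf h2 hS P.hp hup, hu] at h
  exact h

theorem relation [Finite F] (P : Pair f L a p b) (hn : 2 < Fintype.card ι) {v : ι → F} (hvp : f v p = 0)
    (hvb : f v b = 0) (hv : Phi hf L p v ≠ 0) :
    Phi hf L b ((Phi hf L p v)⁻¹ • v) = (Phi hf L p v)⁻¹ := by
  obtain ⟨τ, hτd⟩ : ∃ τ, τ = Phi hf L p v := ⟨_, rfl⟩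
  rw [← hτd] at hv ⊢
  have hwb : f (τ⁻¹ • v) b = 0 := by rw [hf.bilinear.smul_left, hvb, mul_zero]
  obtain ⟨ψ, hψ⟩ : ∃ ψ, ψ = Phi hf L b (τ⁻¹ • v) := ⟨_, rfl⟩
  rw [← hψ]
  have h1 := P.hp.move (Phi_spec hf h2 hS P.hb hwb)
  rw [rs_mulVec hf h2 hwb, ← hψ, P.hpb, hf.bilinear.smul_right, swap_zero hf hvp, mul_zero, zero_smul, one_smul,
    mul_one, add_zero] at h1
  have h3 := (P.hb.move (Phi_spec hf h2 hS P.hp hvp)).smul (inv_ne_zero hv)
  rw [rs_mulVec hf h2 hvp, ← hτd, (P.symm hf h2).hpb, swap_zero hf hvb, zero_smul, one_smul, mul_one, add_zero] at h3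
  have heq : τ⁻¹ • (b + v + τ • p) = p + τ⁻¹ • v + ψ • b + (ψ + τ⁻¹) • b := by
    match_scalars
    · linear_combination -ψ * h2
    · ring
    · field_simp
  rw [heq] at h3
  have hpair : Pair f L a b (p + τ⁻¹ • v + ψ • b) := ⟨P.hb, h1, by
    rw [hf.bilinear.add_right, hf.bilinear.add_right, hf.bilinear.smul_right, hf.bilinear.smul_right, hf.alternating,
      swap_zero hf hvb, (P.symm hf h2).hpb, mul_zero, mul_zero, add_zero, add_zero]⟩
  exact eq_of_add_eq_zero h2 (unique hf h2 hS hz hpair hn h3)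

theorem homogeneous [Finite F] (P : Pair f L a p b) (hn : 2 < Fintype.card ι) {v : ι → F} (hvp : f v p = 0)
    (hvb : f v b = 0) (r : F) : Phi hf L p (r • v) = r ^ 2 * Phi hf L p v := by
  rcases eq_or_ne r 0 with rfl | hr
  · rw [zero_smul, (Phi_graph hf h2 hS P.hp).zero hf h2]; ring
  by_cases hv : Phi hf L p v = 0
  · rw [cone hf h2 hS hz P hvp hvb hv r, hv, mul_zero]
  obtain ⟨s, hs⟩ := value_line hf h2 hS hz P hvp hvb hv (Phi hf L p v / r)
  have hsp : f (s • v) p = 0 := by rw [hf.bilinear.smul_left, hvp, mul_zero]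
  have hsb : f (s • v) b = 0 := by rw [hf.bilinear.smul_left, hvb, mul_zero]
  have hs0 : Phi hf L p (s • v) ≠ 0 := hs ▸ div_ne_zero hv hr
  have hmem : ∀ z, f z p = 0 → f z b = 0 → Phi hf L p z ≠ 0 → swapEl hf p b z (Phi hf L p z) ∈ L := by
    intro z hzp hzb hz0
    have h := Phi_spec hf h2 hS P.hb (v := (Phi hf L p z)⁻¹ • z) (by rw [hf.bilinear.smul_left, hzb, mul_zero])
    rw [relation hf h2 hS hz P hn hzp hzb hz0] at h
    exact L.mul_mem (L.mul_mem (Phi_spec hf h2 hS P.hp hzp) h) (Phi_spec hf h2 hS P.hp hzp)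
  obtain ⟨a1, a2, a3⟩ := swapEl_apply hf h2 hv P.hpb hvp hvb
  obtain ⟨b1, -, b3⟩ := swapEl_apply hf h2 hs0 P.hpb hsp hsb
  have h := Phi_move hf h2 hS P.hp hvp (L.mul_mem (hmem v hvp hvb hv) (hmem _ hsp hsb hs0))
  rw [gl_mul_mulVec, gl_mul_mulVec, b1, mulVec_smul, a2, smul_smul,
    b3 v hvp hvb (by rw [hf.bilinear.smul_right, hf.alternating, mul_zero]),
    a3 v hvp hvb (hf.alternating v), hs, show (Phi hf L p v / r)⁻¹ * Phi hf L p v = r by field_simp,
    Phi_smul hf h2 hS P.hp hvp hr, div_eq_iff (mul_ne_zero hr hr)] at h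
  linear_combination h

theorem same [Finite F] (P : Pair f L a p b) (hn : 2 < Fintype.card ι) {v : ι → F} (hvp : f v p = 0)
    (hvb : f v b = 0) : Phi hf L b v = Phi hf L p v := by
  by_cases hv : Phi hf L p v = 0
  · rw [hv, zero_swap hf h2 hS hz (P.symm hf h2) hvb hvp hv]
  · have h := relation hf h2 hS hz P hn hvp hvb hv
    rw [homogeneous hf h2 hS hz (P.symm hf h2) hn hvb hvp] at h
    field_simp at h
    linear_combination h

/-- the form defined by the pair -/
noncomputable def qval (L : Subgroup (GL ι F)) (p b x : ι → F) : F :=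
  f x b * f x p + Phi hf L p (prj (f := f) p b x)

omit hS hz h2 in
theorem qval_def (x : ι → F) : qval hf L p b x = f x b * f x p + Phi hf L p (prj (f := f) p b x) := rfl

theorem qval_W (P : Pair f L a p b) {v : ι → F} (hvp : f v p = 0) (hvb : f v b = 0) :
    qval hf L p b v = Phi hf L p v := by
  rw [qval_def, prj, hvp, hvb, mul_zero, zero_add, zero_smul, zero_smul, add_zero, add_zero]

theorem qval_pair [Finite F] (P : Pair f L a p b) : qval hf L p b p = 0 ∧ qval hf L p b b = 0 := by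
  have h0 := (Phi_graph hf h2 hS P.hp).zero hf h2
  constructor
  · rw [qval_def, prj, P.hpb, hf.alternating, one_smul, zero_smul, add_zero, vadd_self h2, h0, mul_zero, add_zero]
  · rw [qval_def, prj, (P.symm hf h2).hpb, hf.alternating, one_smul, zero_smul, add_zero, vadd_self h2, h0, zero_mul,
      add_zero]

theorem qval_smul [Finite F] (P : Pair f L a p b) (hn : 2 < Fintype.card ι) (r : F) (x : ι → F) :
    qval hf L p b (r • x) = r ^ 2 * qval hf L p b x := by
  obtain ⟨h1, h3⟩ := prj_orth hf h2 P.hpb x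
  have e : prj (f := f) p b (r • x) = r • prj (f := f) p b x := by
    simp only [prj, hf.bilinear.smul_left]
    module
  rw [qval_def, qval_def, e, homogeneous hf h2 hS hz P hn h1 h3, hf.bilinear.smul_left, hf.bilinear.smul_left]
  ring

theorem qval_add (P : Pair f L a p b) (x y : ι → F) :
    qval hf L p b (x + y) = qval hf L p b x + qval hf L p b y + f x y := by
  obtain ⟨h1, -⟩ := prj_orth hf h2 P.hpb x
  obtain ⟨h3, -⟩ := prj_orth hf h2 P.hpb y
  have e : prj (f := f) p b (x + y) = prj (f := f) p b x + prj (f := f) p b y := by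
    simp only [prj, hf.bilinear.add_left]
    module
  rw [qval_def, qval_def, qval_def, e, (Phi_graph hf h2 hS P.hp).add _ _ h1 h3]
  simp only [prj, hf.bilinear.add_left, hf.bilinear.add_right, hf.bilinear.smul_left, hf.bilinear.smul_right,
    hf.alternating, P.hpb, (P.symm hf h2).hpb, comm h2 hf p y, comm h2 hf b y]
  linear_combination (2 * (f x b * f y p + f y b * f x p)) * h2

theorem qval_orbit [Finite F] (P : Pair f L a p b) (hn : 2 < Fintype.card ι) {q : ι → F} (hq : InS L a q) :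
    qval hf L p b q = 0 := by
  obtain ⟨hvp, hvb⟩ := prj_orth hf h2 P.hpb q
  obtain ⟨x, hx⟩ : ∃ x, x = prj (f := f) p b q := ⟨_, rfl⟩
  rw [← hx] at hvp hvb
  have hd := decomp hf h2 p b q
  rw [← hx] at hd
  rcases eq_or_ne (f q p) 0 with h0 | h0
  · have h := hz p q P.hp hq (swap_zero hf h0)
    rw [hd, h0, zero_smul, add_zero, Phi_mod hf h2 hS P.hp hvp] at h
    rw [qval_def, ← hx, h, h0, mul_zero, add_zero]
  · obtain ⟨β, hβ⟩ : ∃ β, β = f q p := ⟨_, rfl⟩
    rw [← hβ] at h0 hd
    have hxp : f (β⁻¹ • x) p = 0 := by rw [hf.bilinear.smul_left, hvp, mul_zero]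
    have hxb : f (β⁻¹ • x) b = 0 := by rw [hf.bilinear.smul_left, hvb, mul_zero]
    obtain ⟨c, hc⟩ : ∃ c, c = Phi hf L p (β⁻¹ • x) := ⟨_, rfl⟩
    have h1 := P.hb.move (Phi_spec hf h2 hS P.hp hxp)
    rw [rs_mulVec hf h2 hxp, ← hc, (P.symm hf h2).hpb, swap_zero hf hxb, zero_smul, one_smul, mul_one,
      add_zero] at h1
    have hpair : Pair f L a p (b + β⁻¹ • x + c • p) := ⟨P.hp, h1, by
      rw [hf.bilinear.add_right, hf.bilinear.add_right, hf.bilinear.smul_right, hf.bilinear.smul_right,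
        hf.alternating, P.hpb, swap_zero hf hvp, mul_zero, mul_zero, add_zero, add_zero]⟩
    have heq : β⁻¹ • q = b + β⁻¹ • x + c • p + (β⁻¹ * f q b + c) • p := by
      conv_lhs => rw [hd]
      match_scalars
      · ring
      · linear_combination -c * h2
      · field_simp
    have h := unique hf h2 hS hz hpair hn (heq ▸ hq.smul (inv_ne_zero h0))
    rw [homogeneous hf h2 hS hz P hn hvp hvb] at hc
    rw [qval_def, ← hx, ← hβ]
    have hc' : c * β ^ 2 = Phi hf L p x := by rw [hc]; field_simp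
    field_simp at h
    linear_combination β * h - hc'

/-- the invariant quadratic form -/
theorem exists_quad [Finite F] (P : Pair f L a p b) (hn : 2 < Fintype.card ι) :
    ∃ Q : QuadraticForm F (ι → F), (∀ u v, QuadraticMap.polar ⇑Q u v = f u v) ∧ Q p = 0 ∧ Q b = 0 ∧
      (∀ g ∈ L, ∀ x, Q ((g : Matrix ι ι F) *ᵥ x) = Q x) ∧
      ∀ v, f v p = 0 → f v b = 0 → rs hf p v (Q v) ∈ L ∧ rs hf b v (Q v) ∈ L := by
  have hpol : ∀ u v, QuadraticMap.polar (qval hf L p b) u v = f u v := fun u v => by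
    show qval hf L p b (u + v) - qval hf L p b u - qval hf L p b v = f u v
    rw [qval_add hf h2 hS hz P]
    ring
  refine ⟨QuadraticMap.ofPolar (qval hf L p b)
    (fun r x => by rw [qval_smul hf h2 hS hz P hn, smul_eq_mul, sq])
    (fun x x' y => by rw [hpol, hpol, hpol, hf.bilinear.add_left])
    (fun r x y => by rw [hpol, hpol, hf.bilinear.smul_left, smul_eq_mul]),
    hpol, (qval_pair hf h2 hS hz P).1, (qval_pair hf h2 hS hz P).2, fun g hg x => ?_, fun v hvp hvb => ?_⟩
  · show qval hf L p b ((g : Matrix ι ι F) *ᵥ x) = qval hf L p b x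
    obtain ⟨D, hD⟩ : ∃ D : (ι → F) → F, ∀ y, D y = qval hf L p b ((g : Matrix ι ι F) *ᵥ y) + qval hf L p b y :=
      ⟨_, fun _ => rfl⟩
    have hadd : ∀ y z, D (y + z) = D y + D z := fun y z => by
      rw [hD, hD, hD, mulVec_add, qval_add hf h2 hS hz P, qval_add hf h2 hS hz P, mem_isoSub.1 (hS.le hg)]
      linear_combination (f y z) * h2
    have hsm : ∀ (r : F) y, D (r • y) = r ^ 2 * D y := fun r y => by
      rw [hD, hD, mulVec_smul, qval_smul hf h2 hS hz P hn, qval_smul hf h2 hS hz P hn]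
      ring
    have hS0 : ∀ q, InS L a q → D q = 0 := fun q hq => by
      rw [hD, qval_orbit hf h2 hS hz P hn hq, qval_orbit hf h2 hS hz P hn (hq.move hg), add_zero]
    have hW : ∀ v, f v p = 0 → f v b = 0 → D v = 0 := fun v hvp hvb => by
      have h1 := hS0 _ (P.hb.move (Phi_spec hf h2 hS P.hp hvp))
      rw [rs_mulVec hf h2 hvp, (P.symm hf h2).hpb, swap_zero hf hvb, zero_smul, one_smul, add_zero, hadd, hadd, hsm,
        hS0 _ P.hb, hS0 _ P.hp] at h1
      linear_combination h1
    obtain ⟨h1, h3⟩ := prj_orth hf h2 P.hpb x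
    have h : D x = 0 := by
      rw [decomp hf h2 p b x, hadd, hadd, hsm, hsm, hW _ h1 h3, hS0 _ P.hp, hS0 _ P.hb]
      ring
    rw [hD] at h
    exact eq_of_add_eq_zero h2 h
  · show rs hf p v (qval hf L p b v) ∈ L ∧ rs hf b v (qval hf L p b v) ∈ L
    rw [qval_W hf h2 hS hz P hvp hvb]
    exact ⟨Phi_spec hf h2 hS P.hp hvp, same hf h2 hS hz P hn hvp hvb ▸ Phi_spec hf h2 hS P.hb hvb⟩

end CfsgLib.Perm.Trans.Symp.O2
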