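import Cfsg.Agent.Lib.Perm.Trans.SympO2.Quadric
import Cfsg.Agent.Lib.Orth.Omega

/-!
# Overgroups of the two unipotent radicals inside an orthogonal group in characteristic two
-/

set_option autoImplicit false
set_option linter.all false

namespace CfsgLib.Perm.Trans.Symp.O2

open scoped Matrix
open Matrix Cfsg.Geo CfsgLib.Perm.Asch CfsgLib.Perm.Trans CfsgLib.Perm.Trans.Symp CfsgLib.Orth

/-! ### Adding a hyperbolic plane -/

section Ext

variable {ι : Type} [Fintype ι] [DecidableEq ι] {F : Type*} [Field F]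

/-- the form plus a hyperbolic plane -/
def extForm (q : (ι → F) → F) (x : ι ⊕ Fin 2 → F) : F := q (x ∘ Sum.inl) + x (Sum.inr 0) * x (Sum.inr 1)

/-- the block embedding of matrices -/
def extMat : Matrix ι ι F →* Matrix (ι ⊕ Fin 2) (ι ⊕ Fin 2) F where
  toFun M := Matrix.fromBlocks M 0 0 1
  map_one' := Matrix.fromBlocks_one
  map_mul' M N := by
    rw [Matrix.fromBlocks_multiply]
    simp

/-- the block embedding of invertible matrices -/
def extGL : GL ι F →* GL (ι ⊕ Fin 2) F := Units.map (extMat (ι := ι) (F := F))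

theorem extGL_mulVec (g : GL ι F) (x : ι ⊕ Fin 2 → F) :
    (extGL g : Matrix (ι ⊕ Fin 2) (ι ⊕ Fin 2) F) *ᵥ x =
      Sum.elim ((g : Matrix ι ι F) *ᵥ (x ∘ Sum.inl)) (x ∘ Sum.inr) := by
  show Matrix.fromBlocks (g : Matrix ι ι F) 0 0 1 *ᵥ x = _
  rw [Matrix.fromBlocks_mulVec, Matrix.zero_mulVec, Matrix.zero_mulVec, Matrix.one_mulVec, add_zero, zero_add]

theorem wrk_extGL (g : GL ι F) : wrk (extGL g) = wrk g := by
  let e : (ι → F) →ₗ[F] (ι ⊕ Fin 2 → F) :=
    { toFun := fun x => Sum.elim x 0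
      map_add' := fun x y => funext fun i => by cases i <;> simp
      map_smul' := fun r x => funext fun i => by cases i <;> simp }
  have he : Function.Injective e := fun x y h => funext fun i => congrFun h (Sum.inl i)
  have hd : ∀ x, disp (extGL g) x = e (disp g (x ∘ Sum.inl)) := fun x => by
    rw [disp_apply, disp_apply, extGL_mulVec]
    refine funext fun i => ?_
    cases i <;> simp [e]
  have hmap : moved (extGL g) = (moved g).map e := by
    refine le_antisymm ?_ ?_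
    · rintro _ ⟨x, rfl⟩
      exact ⟨_, ⟨x ∘ Sum.inl, rfl⟩, (hd x).symm⟩
    · rintro _ ⟨_, ⟨x, rfl⟩, rfl⟩
      exact ⟨Sum.elim x 0, by rw [hd, Sum.elim_comp_inl]⟩
  show Module.finrank F ↥(moved (extGL g)) = Module.finrank F ↥(moved g)
  rw [hmap]
  exact (Submodule.equivMapOfInjective e he (moved g)).finrank_eq.symm

theorem extGL_iso {q : (ι → F) → F} {g : GL ι F} (hg : g ∈ Cfsg.isometryGroup F q) :
    extGL g ∈ Cfsg.isometryGroup F (extForm q) := by
  refine Quad.mem_iso.2 fun x => ?_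
  rw [extGL_mulVec, extForm, extForm, Sum.elim_comp_inl, Quad.mem_iso.1 hg]
  simp only [Sum.elim_inr, Function.comp_apply]

theorem wrk_eq_rank (g : GL ι F) : ((g : Matrix ι ι F) - 1).rank = wrk g := by
  have h : ((g : Matrix ι ι F) - 1).mulVecLin = -disp g := LinearMap.ext fun x => by
    rw [Matrix.mulVecLin_apply, LinearMap.neg_apply, disp_apply, Matrix.sub_mulVec, Matrix.one_mulVec]
    abel
  rw [Matrix.rank, h, LinearMap.range_neg]
  rfl

end Ext

variable {ι : Type} [Fintype ι] [DecidableEq ι] {F : Type*} [Field F]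
variable {f : (ι → F) → (ι → F) → F} (hf : IsSymplecticForm f) (h2 : (2 : F) = 0)
variable {q : QuadraticForm F (ι → F)} (hpol : ∀ u v, QuadraticMap.polar ⇑q u v = f u v)
variable {p b : ι → F}

/-- the generators of the two radicals -/
def gensW (q : QuadraticForm F (ι → F)) (p b : ι → F) : Set (GL ι F) :=
  {g | ∃ v, f v p = 0 ∧ f v b = 0 ∧ (g = rs hf p v (q v) ∨ g = rs hf b v (q v))}

include hf h2 hpol

theorem q_add (x y : ι → F) : q (x + y) = q x + q y + f x y := by
  rw [← hpol x y]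
  show q (x + y) = q x + q y + (q (x + y) - q x - q y)
  ring

omit hf h2 hpol in
theorem q_smul (r : F) (x : ι → F) : q (r • x) = r ^ 2 * q x := by rw [QuadraticMap.map_smul, smul_eq_mul, sq]

theorem stv_isometry {x : ι → F} (hx : q x ≠ 0) : stv hf x (q x)⁻¹ ∈ Cfsg.isometryGroup F ⇑q := by
  refine Quad.mem_iso.2 fun y => ?_
  rw [stv_mulVec, q_add hf h2 hpol, q_smul, hf.bilinear.smul_right]
  field_simp
  linear_combination (f y x ^ 2) * h2

theorem isRefl_stv {x : ι → F} (hx : q x ≠ 0) : Quad.IsRefl ⇑q x (stv hf x (q x)⁻¹) := fun y => by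
  rw [stv_mulVec, hpol]
  match_scalars
  · ring
  · linear_combination ((q x)⁻¹ * f y x) * h2

theorem rs_isometry {u v : ι → F} (hu : q u = 0) (hvu : f v u = 0) : rs hf u v (q v) ∈ Cfsg.isometryGroup F ⇑q := by
  refine Quad.mem_iso.2 fun y => ?_
  rw [rs_mulVec hf h2 hvu, q_add hf h2 hpol, q_add hf h2 hpol, q_add hf h2 hpol, q_smul, q_smul, q_smul, hu]
  simp only [hf.bilinear.add_left, hf.bilinear.smul_left, hf.bilinear.smul_right, hf.alternating, hvu,
    swap_zero hf hvu]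
  linear_combination (f y u * f y v + f y u * f y u * q v) * h2

/-- parity of the rank is multiplicative on the isometry group -/
theorem parity [Fintype F] (hn : 2 < Fintype.card ι) {g h : GL ι F} (hg : g ∈ Cfsg.isometryGroup F ⇑q)
    (hh : h ∈ Cfsg.isometryGroup F ⇑q) : Even (wrk (g * h)) ↔ (Even (wrk g) ↔ Even (wrk h)) := by
  have hpol' : ∀ x y, QuadraticMap.polar (extForm ⇑q) x y =
      f (x ∘ Sum.inl) (y ∘ Sum.inl) + x (Sum.inr 0) * y (Sum.inr 1) + x (Sum.inr 1) * y (Sum.inr 0) := fun x y => by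
    show extForm ⇑q (x + y) - extForm ⇑q x - extForm ⇑q y = _
    simp only [extForm, Pi.add_apply]
    rw [show (x + y) ∘ Sum.inl = (x ∘ Sum.inl) + (y ∘ Sum.inl) from rfl, q_add hf h2 hpol]
    ring
  have hQ : IsNondegenerateQuadraticForm (extForm ⇑q) := by
    refine ⟨fun c x => ?_, ⟨fun x x' y => ?_, fun c x y => ?_, fun x y y' => ?_, fun c x y => ?_⟩, fun x hx => ?_⟩
    · simp only [extForm, Pi.smul_apply, smul_eq_mul]
      rw [show (c • x) ∘ Sum.inl = c • (x ∘ Sum.inl) from rfl, q_smul]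
      ring
    · simp only [hpol', Pi.add_apply]
      rw [show (x + x') ∘ Sum.inl = (x ∘ Sum.inl) + (x' ∘ Sum.inl) from rfl, hf.bilinear.add_left]
      ring
    · simp only [hpol', Pi.smul_apply, smul_eq_mul]
      rw [show (c • x) ∘ Sum.inl = c • (x ∘ Sum.inl) from rfl, hf.bilinear.smul_left]
      ring
    · simp only [hpol', Pi.add_apply]
      rw [show (y + y') ∘ Sum.inl = (y ∘ Sum.inl) + (y' ∘ Sum.inl) from rfl, hf.bilinear.add_right]
      ring
    · simp only [hpol', Pi.smul_apply, smul_eq_mul]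
      rw [show (c • y) ∘ Sum.inl = c • (y ∘ Sum.inl) from rfl, hf.bilinear.smul_right]
      ring
    · suffices h : ∃ y, QuadraticMap.polar (extForm ⇑q) x y ≠ 0 by
        obtain ⟨y, hy⟩ := h
        exact ⟨⟨y, by rwa [QuadraticMap.polar_comm]⟩, ⟨y, hy⟩⟩
      by_cases hl : x ∘ Sum.inl = 0
      · have hr : x (Sum.inr 0) ≠ 0 ∨ x (Sum.inr 1) ≠ 0 := by
          by_contra hcon
          push Not at hcon
          refine hx (funext fun i => ?_)
          rcases i with i | i
          · exact congrFun hl i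
          · fin_cases i
            · exact hcon.1
            · exact hcon.2
        rcases hr with hr | hr
        · refine ⟨Sum.elim 0 ![0, 1], ?_⟩
          rw [hpol', hl, zero_left hf]
          simpa using hr
        · refine ⟨Sum.elim 0 ![1, 0], ?_⟩
          rw [hpol', hl, zero_left hf]
          simpa using hr
      · obtain ⟨y, hy⟩ := (hf.nondegenerate _ hl).1
        by_cases hy' : f (x ∘ Sum.inl) y = 0
        · obtain ⟨z, hz⟩ := (hf.nondegenerate _ hl).2
          exact absurd (by rw [comm h2 hf]; exact hy') hy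
        · exact ⟨Sum.elim y 0, by rw [hpol', Sum.elim_comp_inl]; simpa using hy'⟩
  have hex : Fintype.card F ≠ 2 ∨ Fintype.card (ι ⊕ Fin 2) ≠ 4 := Or.inr (by
    rw [Fintype.card_sum, Fintype.card_fin]; omega)
  have := (spn_mul hQ (iso_le_reflGroup hQ hex (extGL_iso hg)) (extGL_iso hh)).2
  rwa [← map_mul, wrk_extGL, wrk_extGL, wrk_extGL] at this

variable (hp : q p = 0) (hb : q b = 0) (hpb : f p b = 1)
include hp hb hpb

omit hp hb hpol in
theorem t0_apply : (stv hf (p + b) 1 : Matrix ι ι F) *ᵥ p = b ∧ (stv hf (p + b) 1 : Matrix ι ι F) *ᵥ b = p ∧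
    ∀ v, f v p = 0 → f v b = 0 → (stv hf (p + b) 1 : Matrix ι ι F) *ᵥ v = v := by
  refine ⟨?_, ?_, fun v hvp hvb => ?_⟩
  · rw [stv_mulVec, hf.bilinear.add_right, hf.alternating, hpb]
    match_scalars
    · linear_combination h2
    · ring
  · rw [stv_mulVec, hf.bilinear.add_right, hf.alternating, comm h2 hf b p, hpb]
    match_scalars
    · linear_combination h2
    · ring
  · rw [stv_mulVec, hf.bilinear.add_right, hvp, hvb]
    module

theorem q_pb : q (p + b) = 1 := by rw [q_add hf h2 hpol, hp, hb, hpb, zero_add, zero_add]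

theorem gensW_isometry : gensW hf q p b ⊆ Cfsg.isometryGroup F ⇑q := by
  rintro _ ⟨v, hvp, hvb, rfl | rfl⟩
  · exact rs_isometry hf h2 hpol hp hvp
  · exact rs_isometry hf h2 hpol hb hvb

theorem t0_isometry : stv hf (p + b) 1 ∈ Cfsg.isometryGroup F ⇑q := by
  have h := stv_isometry hf h2 hpol (x := p + b) (by rw [q_pb hf h2 hpol hp hb hpb]; exact one_ne_zero)
  rwa [q_pb hf h2 hpol hp hb hpb, inv_one] at h

omit hp hb hpol hpb in
theorem t0_sq (x : ι → F) : stv hf x 1 * stv hf x 1 = 1 := by rw [stv_mul, add_self_eq h2, stv_zero]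

theorem t0_normalises {g : GL ι F} (hg : g ∈ Subgroup.closure (gensW hf q p b)) :
    stv hf (p + b) 1 * g * stv hf (p + b) 1 ∈ Subgroup.closure (gensW hf q p b) := by
  obtain ⟨e1, e3, e4⟩ := t0_apply hf h2 hpb
  have htt := t0_sq hf h2 (p + b)
  induction hg using Subgroup.closure_induction with
  | mem x hx =>
    obtain ⟨v, hvp, hvb, hx⟩ := hx
    have hinv : (stv hf (p + b) 1)⁻¹ = stv hf (p + b) 1 := inv_eq_of_mul_eq_one_right htt
    refine Subgroup.subset_closure ⟨v, hvp, hvb, ?_⟩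
    nth_rewrite 2 [← hinv]
    nth_rewrite 4 [← hinv]
    rcases hx with rfl | rfl
    · right; rw [rs_conj hf (stv_iso hf _ _), e1, e4 v hvp hvb]
    · left; rw [rs_conj hf (stv_iso hf _ _), e3, e4 v hvp hvb]
  | one => rw [mul_one, htt]; exact one_mem _
  | mul x y hx hy ihx ihy =>
    have h := mul_mem ihx ihy
    rwa [show stv hf (p + b) 1 * x * stv hf (p + b) 1 * (stv hf (p + b) 1 * y * stv hf (p + b) 1) =
      stv hf (p + b) 1 * x * (stv hf (p + b) 1 * stv hf (p + b) 1) * y * stv hf (p + b) 1 by group,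
      htt, mul_one, mul_assoc (stv hf (p + b) 1) x y] at h
  | inv x hx ih =>
    have h := inv_mem ih
    rwa [_root_.mul_inv_rev, _root_.mul_inv_rev, inv_eq_of_mul_eq_one_right htt, ← mul_assoc] at h

theorem exists_K : ∃ K : Subgroup (GL ι F), ∀ g, g ∈ K ↔ (g ∈ Subgroup.closure (gensW hf q p b) ∨
    g * stv hf (p + b) 1 ∈ Subgroup.closure (gensW hf q p b)) := by
  have htt := t0_sq hf h2 (p + b)
  have hinv : (stv hf (p + b) 1)⁻¹ = stv hf (p + b) 1 := inv_eq_of_mul_eq_one_right htt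
  obtain ⟨t, ht⟩ : ∃ t, t = stv hf (p + b) 1 := ⟨_, rfl⟩
  have hn : ∀ g ∈ Subgroup.closure (gensW hf q p b), t * g * t ∈ Subgroup.closure (gensW hf q p b) := fun g hg =>
    ht ▸ t0_normalises hf h2 hpol hp hb hpb hg
  rw [← ht] at htt hinv ⊢
  refine ⟨{
    carrier := {g | g ∈ Subgroup.closure (gensW hf q p b) ∨ g * t ∈ Subgroup.closure (gensW hf q p b)}
    one_mem' := Or.inl (one_mem _)
    mul_mem' := ?_
    inv_mem' := ?_ }, fun g => Iff.rfl⟩
  · rintro x y (hx | hx) (hy | hy)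
    · exact Or.inl (mul_mem hx hy)
    · exact Or.inr (by rw [mul_assoc]; exact mul_mem hx hy)
    · refine Or.inr ?_
      have h := mul_mem hx (hn y hy)
      rwa [show x * t * (t * y * t) = x * (t * t) * y * t by group, htt, mul_one] at h
    · refine Or.inl ?_
      have h := mul_mem hx (hn _ hy)
      rwa [show x * t * (t * (y * t) * t) = x * (t * t) * y * (t * t) by group, htt, mul_one, mul_one] at h
  · rintro x (hx | hx)
    · exact Or.inl (inv_mem hx)
    · refine Or.inr ?_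
      have h := hn _ (inv_mem hx)
      rwa [_root_.mul_inv_rev, hinv, show t * (t * x⁻¹) * t = t * t * (x⁻¹ * t) by group, htt, one_mul] at h

theorem swap_mem {v : ι → F} (hvp : f v p = 0) (hvb : f v b = 0) (hv : q v ≠ 0) :
    swapEl hf p b v (q v) ∈ Subgroup.closure (gensW hf q p b) := by
  have h1 : rs hf p v (q v) ∈ Subgroup.closure (gensW hf q p b) :=
    Subgroup.subset_closure ⟨v, hvp, hvb, Or.inl rfl⟩
  have hq : q ((q v)⁻¹ • v) = (q v)⁻¹ := by rw [q_smul]; field_simp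
  have h3 : rs hf b ((q v)⁻¹ • v) (q v)⁻¹ ∈ Subgroup.closure (gensW hf q p b) :=
    Subgroup.subset_closure ⟨(q v)⁻¹ • v, by rw [hf.bilinear.smul_left, hvp, mul_zero],
      by rw [hf.bilinear.smul_left, hvb, mul_zero], Or.inr (by rw [hq])⟩
  exact mul_mem (mul_mem h1 h3) h1

theorem W_value [Finite F] (hn : 2 < Fintype.card ι) (t : F) : ∃ v, f v p = 0 ∧ f v b = 0 ∧ q v = t := by
  obtain ⟨u, hup, hub, hu⟩ := exists_orth hf h2 (p := p) (b := b) hn
  obtain ⟨w, hwp, hwb, huw⟩ := exists_dual_orth hf h2 hpb hup hub hu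
  obtain ⟨x, hxp, hxb, hx⟩ : ∃ x, f x p = 0 ∧ f x b = 0 ∧ q x ≠ 0 := by
    by_contra hcon
    push Not at hcon
    have h := q_add hf h2 hpol u w
    rw [hcon u hup hub, hcon w hwp hwb, hcon (u + w) (by rw [hf.bilinear.add_left, hup, hwp, add_zero])
      (by rw [hf.bilinear.add_left, hub, hwb, add_zero]), huw, zero_add, zero_add] at h
    exact zero_ne_one h
  obtain ⟨r, hr⟩ := exists_sq h2 (t / q x)
  exact ⟨r • x, by rw [hf.bilinear.smul_left, hxp, mul_zero], by rw [hf.bilinear.smul_left, hxb, mul_zero],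
    by rw [q_smul, hr, div_mul_cancel₀ _ hx]⟩

theorem diag_mem [Finite F] (hn : 2 < Fintype.card ι) {ρ : F} (hρ : ρ ≠ 0) :
    ∃ g ∈ Subgroup.closure (gensW hf q p b),
      (g : Matrix ι ι F) *ᵥ p = ρ • p ∧ (g : Matrix ι ι F) *ᵥ b = ρ⁻¹ • b := by
  obtain ⟨v, hvp, hvb, hv⟩ := W_value hf h2 hpol hp hb hpb hn ρ
  obtain ⟨w, hwp, hwb, hw⟩ := W_value hf h2 hpol hp hb hpb hn 1
  have hv0 : q v ≠ 0 := hv ▸ hρ
  have hw0 : q w ≠ 0 := hw ▸ one_ne_zero
  refine ⟨_, mul_mem (swap_mem hf h2 hpol hp hb hpb hvp hvb hv0) (swap_mem hf h2 hpol hp hb hpb hwp hwb hw0), ?_, ?_⟩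
  · rw [gl_mul_mulVec, (swapEl_apply hf h2 hw0 hpb hwp hwb).1, mulVec_smul,
      (swapEl_apply hf h2 hv0 hpb hvp hvb).2.1, hw, hv, inv_one, one_smul]
  · rw [gl_mul_mulVec, (swapEl_apply hf h2 hw0 hpb hwp hwb).2.1, mulVec_smul,
      (swapEl_apply hf h2 hv0 hpb hvp hvb).1, hw, hv, one_smul]

variable {K : Subgroup (GL ι F)} (hK : ∀ g, g ∈ K ↔ (g ∈ Subgroup.closure (gensW hf q p b) ∨
    g * stv hf (p + b) 1 ∈ Subgroup.closure (gensW hf q p b)))
include hK

theorem K_le : K ≤ Cfsg.isometryGroup F ⇑q := by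
  have hL0 : Subgroup.closure (gensW hf q p b) ≤ Cfsg.isometryGroup F ⇑q :=
    (Subgroup.closure_le _).2 (gensW_isometry hf h2 hpol hp hb hpb)
  intro g hg
  rcases (hK g).1 hg with h | h
  · exact hL0 h
  · have := mul_mem (hL0 h) (t0_isometry hf h2 hpol hp hb hpb)
    rwa [mul_assoc, t0_sq hf h2, mul_one] at this

theorem t0_mem : stv hf (p + b) 1 ∈ K := (hK _).2 (Or.inr (by rw [t0_sq hf h2]; exact one_mem _))

/-- every nonzero vector can be moved off the orthogonal of `p` -/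
theorem move_off {x : ι → F} (hx : x ≠ 0) : ∃ g ∈ K, f ((g : Matrix ι ι F) *ᵥ x) p ≠ 0 := by
  obtain ⟨e1, e3, -⟩ := t0_apply hf h2 hpb
  have hswap : ∀ y, f ((stv hf (p + b) 1 : Matrix ι ι F) *ᵥ y) p = f y b := fun y => by
    have h := mem_isoSub.1 (stv_iso hf (p + b) 1) y b
    rwa [e3] at h
  by_cases h1 : f x p = 0
  swap
  · exact ⟨1, one_mem _, by rwa [Units.val_one, one_mulVec]⟩
  by_cases h3 : f x b = 0
  swap
  · exact ⟨_, t0_mem hf h2 hpol hp hb hpb hK, by rwa [hswap]⟩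
  obtain ⟨w, hwp, hwb, hxw⟩ := exists_dual_orth hf h2 hpb h1 h3 hx
  refine ⟨stv hf (p + b) 1 * rs hf p w (q w), mul_mem (t0_mem hf h2 hpol hp hb hpb hK)
    ((hK _).2 (Or.inl (Subgroup.subset_closure ⟨w, hwp, hwb, Or.inl rfl⟩))), ?_⟩
  rw [gl_mul_mulVec, hswap, rs_mulVec hf h2 hwp, h1, hxw, mul_zero, zero_smul, zero_smul, one_smul, add_zero,
    add_zero, hf.bilinear.add_left, h3, hpb, zero_add]
  exact one_ne_zero

/-- every nonzero vector can be moved into the plane of the pair -/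
theorem move_plane {x : ι → F} (hx : x ≠ 0) :
    ∃ g ∈ K, ∃ μ β : F, β ≠ 0 ∧ (g : Matrix ι ι F) *ᵥ x = μ • p + β • b ∧ q x = μ * β := by
  obtain ⟨g, hg, hgp⟩ := move_off hf h2 hpol hp hb hpb hK hx
  obtain ⟨y, hy⟩ : ∃ y, y = (g : Matrix ι ι F) *ᵥ x := ⟨_, rfl⟩
  rw [← hy] at hgp
  obtain ⟨hzp, hzb⟩ := prj_orth hf h2 hpb y
  obtain ⟨z, hz⟩ : ∃ z, z = (f y p)⁻¹ • prj (f := f) p b y := ⟨_, rfl⟩
  have hzp' : f z p = 0 := by rw [hz, hf.bilinear.smul_left, hzp, mul_zero]
  have hzb' : f z b = 0 := by rw [hz, hf.bilinear.smul_left, hzb, mul_zero]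
  have hR : rs hf p z (q z) ∈ K := (hK _).2 (Or.inl (Subgroup.subset_closure ⟨z, hzp', hzb', Or.inl rfl⟩))
  have heq : ((rs hf p z (q z) * g : GL ι F) : Matrix ι ι F) *ᵥ x =
      (f y b + f y z + q z * f y p) • p + f y p • b := by
    rw [gl_mul_mulVec, ← hy, rs_mulVec hf h2 hzp']
    conv_lhs => arg 1; arg 2; rw [hz, smul_smul, mul_inv_cancel₀ hgp, one_smul]
    conv_lhs => arg 1; arg 1; arg 1; rw [decomp hf h2 p b y]
    match_scalars
    · linear_combination h2
    · ring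
    · ring
  refine ⟨_, mul_mem hR hg, _, _, hgp, heq, ?_⟩
  rw [← Quad.mem_iso.1 (K_le hf h2 hpol hp hb hpb hK (mul_mem hR hg)) x, heq, q_add hf h2 hpol, q_smul, q_smul, hp,
    hb, hf.bilinear.smul_left, hf.bilinear.smul_right, hpb]
  ring

/-- reflections lie in `K` -/
theorem stv_mem [Finite F] (hn : 2 < Fintype.card ι) {x : ι → F} (hx : q x ≠ 0) : stv hf x (q x)⁻¹ ∈ K := by
  obtain ⟨g, hg, μ, β, hβ, hgx, hq⟩ := move_plane hf h2 hpol hp hb hpb hK
    (x := x) (fun h0 => hx (by rw [h0, QuadraticMap.map_zero]))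
  have hμ : μ ≠ 0 := fun h0 => hx (by rw [hq, h0, zero_mul])
  obtain ⟨ρ, hρ⟩ := exists_sq h2 (β / μ)
  have hρ0 : ρ ≠ 0 := fun h0 => div_ne_zero hβ hμ (by rw [← hρ, h0]; ring)
  obtain ⟨k, hk, hk1, hk3⟩ := diag_mem hf h2 hpol hp hb hpb hn hρ0
  have hk' : k ∈ K := (hK k).2 (Or.inl hk)
  have hρ' : ρ ^ 2 * μ = β := by rw [hρ, div_mul_cancel₀ _ hμ]
  have heq : ((k * g : GL ι F) : Matrix ι ι F) *ᵥ x = (μ * ρ) • (p + b) := by
    rw [gl_mul_mulVec, hgx, mulVec_add, mulVec_smul, mulVec_smul, hk1, hk3, ← hρ']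
    match_scalars
    · ring
    · field_simp
  have hc : (k * g) * stv hf x (q x)⁻¹ * (k * g)⁻¹ = stv hf (p + b) 1 := by
    have hiso : k * g ∈ isoSub f := mem_isoSub.2 fun u v => by
      have h1 := Quad.iso_pol (K_le hf h2 hpol hp hb hpb hK (mul_mem hk' hg)) u v
      rwa [hpol, hpol] at h1
    rw [stv_conj hf hiso, heq, stv_smul]
    congr 1
    rw [hq, ← hρ']
    field_simp
  have h := mul_mem (mul_mem (inv_mem (mul_mem hk' hg)) (t0_mem hf h2 hpol hp hb hpb hK)) (mul_mem hk' hg)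
  rw [← hc] at h
  rwa [show (k * g)⁻¹ * (k * g * stv hf x (q x)⁻¹ * (k * g)⁻¹) * (k * g) = stv hf x (q x)⁻¹ by group] at h

/-- every nonzero singular vector can be moved to `p` -/
theorem move_singular [Finite F] (hn : 2 < Fintype.card ι) {x : ι → F} (hx : x ≠ 0) (hqx : q x = 0) :
    ∃ g ∈ K, (g : Matrix ι ι F) *ᵥ x = p := by
  obtain ⟨g, hg, μ, β, hβ, hgx, hq⟩ := move_plane hf h2 hpol hp hb hpb hK hx
  have hμ : μ = 0 := (mul_eq_zero.1 (hq.symm.trans hqx)).resolve_right hβ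
  obtain ⟨k, hk, hk1, -⟩ := diag_mem hf h2 hpol hp hb hpb hn (inv_ne_zero hβ)
  refine ⟨k * (stv hf (p + b) 1 * g), mul_mem ((hK k).2 (Or.inl hk))
    (mul_mem (t0_mem hf h2 hpol hp hb hpb hK) hg), ?_⟩
  rw [gl_mul_mulVec, gl_mul_mulVec, hgx, hμ, zero_smul, zero_add, mulVec_smul, (t0_apply hf h2 hpb).2.1, mulVec_smul,
    hk1, smul_smul, mul_inv_cancel₀ hβ, one_smul]

theorem iso_le_K_small [Fintype F] (hq2 : Fintype.card F = 2) (hn4 : Fintype.card ι = 4) :
    Cfsg.isometryGroup F ⇑q ≤ K := by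
  have hn : 2 < Fintype.card ι := by omega
  intro g hg
  have hiso : ∀ {k : GL ι F}, k ∈ Cfsg.isometryGroup F ⇑q → ∀ u v,
      f ((k : Matrix ι ι F) *ᵥ u) ((k : Matrix ι ι F) *ᵥ v) = f u v := fun hk u v => by
    rw [← hpol, ← hpol]; exact Quad.iso_pol hk u v
  have h01 : ∀ t : F, t ≠ 0 → t = 1 := fun t ht => by
    classical
    by_contra hne
    have h1 : ({0, 1, t} : Finset F).card = 3 := by
      rw [Finset.card_insert_of_notMem (by simp [Ne.symm ht]), Finset.card_insert_of_notMem (by simp [Ne.symm hne]),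
        Finset.card_singleton]
    have h3 := Finset.card_le_univ ({0, 1, t} : Finset F)
    omega
  have hbp : f b p = 1 := by rw [comm h2 hf, hpb]
  have hne0 : ∀ {k : GL ι F} {x : ι → F}, x ≠ 0 → (k : Matrix ι ι F) *ᵥ x ≠ 0 := fun {k x} hx h0 => hx (by
    rw [← gl_inv_mulVec k x, h0, mulVec_zero])
  -- reduce to an element fixing both points
  suffices hfix : ∀ g ∈ Cfsg.isometryGroup F ⇑q, (g : Matrix ι ι F) *ᵥ p = p → (g : Matrix ι ι F) *ᵥ b = b → g ∈ K by
    have hp0 : p ≠ 0 := fun h0 => by rw [h0, zero_left hf] at hpb; exact zero_ne_one hpb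
    obtain ⟨k, hk, hkp⟩ := move_singular hf h2 hpol hp hb hpb hK hn (hne0 (k := g) hp0)
      (by rw [Quad.mem_iso.1 hg, hp])
    have hg1 : k * g ∈ Cfsg.isometryGroup F ⇑q := mul_mem (K_le hf h2 hpol hp hb hpb hK hk) hg
    obtain ⟨y, hy⟩ : ∃ y, y = ((k * g : GL ι F) : Matrix ι ι F) *ᵥ b := ⟨_, rfl⟩
    have hyp : f y p = 1 := by
      have h := hiso hg1 b p
      rwa [← hy, gl_mul_mulVec, hkp, hbp] at h
    obtain ⟨hvp, hvb⟩ := prj_orth hf h2 hpb y
    obtain ⟨v, hv⟩ : ∃ v, v = prj (f := f) p b y := ⟨_, rfl⟩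
    rw [← hv] at hvp hvb
    have hqv : f y b = q v := by
      have h := Quad.mem_iso.1 hg1 b
      rw [← hy, decomp hf h2 p b y, ← hv, hyp, one_smul, q_add hf h2 hpol, q_add hf h2 hpol, q_smul, hp, hb,
        hf.bilinear.add_left, hf.bilinear.smul_left, hf.bilinear.smul_right, hvp, hvb, hpb] at h
      exact (eq_of_add_eq_zero h2 (by linear_combination h)).symm
    have hR : rs hf p v (q v) ∈ K := (hK _).2 (Or.inl (Subgroup.subset_closure ⟨v, hvp, hvb, Or.inl rfl⟩))
    have hRb : (rs hf p v (q v) : Matrix ι ι F) *ᵥ y = b := by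
      rw [rs_mulVec hf h2 hvp, decomp hf h2 p b y, ← hv, hyp, hqv]
      simp only [hf.bilinear.add_left, hf.bilinear.smul_left, hf.alternating, hvp, hvb, swap_zero hf hvp,
        swap_zero hf hvb, hpb, hbp]
      match_scalars
      · linear_combination h2
      · linear_combination (q v) * h2
      · ring
    have hmem := hfix (rs hf p v (q v) * (k * g)) (mul_mem (K_le hf h2 hpol hp hb hpb hK hR) hg1)
      (by rw [gl_mul_mulVec, gl_mul_mulVec, hkp, rs_mulVec hf h2 hvp, hf.alternating, swap_zero hf hvp]; module)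
      (by rw [gl_mul_mulVec, ← hy, hRb])
    exact (Subgroup.mul_mem_cancel_left K hk).1 ((Subgroup.mul_mem_cancel_left K hR).1 hmem)
  clear hg g
  intro g hg hgp hgb
  obtain ⟨u, hup, hub, hu⟩ := exists_orth hf h2 (p := p) (b := b) hn
  obtain ⟨w, hwp, hwb, huw⟩ := exists_dual_orth hf h2 hpb hup hub hu
  have hwu : f w u = 1 := by rw [comm h2 hf, huw]
  -- coordinates
  have hexp : ∀ x, f x p = 0 → f x b = 0 → x = f x w • u + f x u • w := by
    let A : (ι → F) →ₗ[F] (Fin 4 → F) := LinearMap.pi ![sfun hf p, sfun hf b, sfun hf u, sfun hf w]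
    have hAs : Function.Surjective A := fun y => ⟨y 1 • p + y 0 • b + y 3 • u + y 2 • w, funext fun i => by
      show (![sfun hf p, sfun hf b, sfun hf u, sfun hf w] i) (y 1 • p + y 0 • b + y 3 • u + y 2 • w) = y i
      fin_cases i
      all_goals
        simp only [Matrix.cons_val_zero, Matrix.cons_val_one, Matrix.cons_val_two, Matrix.cons_val_three,
          Matrix.head_cons, Matrix.tail_cons, Matrix.cons_val, Fin.isValue, Fin.zero_eta, Fin.mk_one,
          Fin.reduceFinMk]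
        show f (y 1 • p + y 0 • b + y 3 • u + y 2 • w) _ = _
        simp only [hf.bilinear.add_left, hf.bilinear.smul_left, hf.alternating, hpb, hbp, hup, hub, hwp, hwb, huw, hwu,
          swap_zero hf hup, swap_zero hf hub, swap_zero hf hwp, swap_zero hf hwb, mul_zero, mul_one, add_zero,
          zero_add]⟩
    have hAi : Function.Injective A := (LinearMap.injective_iff_surjective_of_finrank_eq_finrank (by
      rw [Module.finrank_fintype_fun_eq_card, Module.finrank_fintype_fun_eq_card, hn4, Fintype.card_fin])).2 hAs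
    intro x hxp hxb
    refine hAi (funext fun i => ?_)
    show (![sfun hf p, sfun hf b, sfun hf u, sfun hf w] i) x =
      (![sfun hf p, sfun hf b, sfun hf u, sfun hf w] i) (f x w • u + f x u • w)
    fin_cases i
    all_goals
      simp only [Matrix.cons_val_zero, Matrix.cons_val_one, Matrix.cons_val_two, Matrix.cons_val_three,
        Matrix.head_cons, Matrix.tail_cons, Matrix.cons_val, Fin.isValue, Fin.zero_eta, Fin.mk_one,
        Fin.reduceFinMk]
      show f x _ = f (f x w • u + f x u • w) _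
      simp only [hf.bilinear.add_left, hf.bilinear.smul_left, hf.alternating, hxp, hxb, hup, hub, hwp, hwb, huw, hwu,
        mul_zero, mul_one, add_zero, zero_add]
  have hfp : ∀ {k : GL ι F}, k ∈ Cfsg.isometryGroup F ⇑q → (k : Matrix ι ι F) *ᵥ p = p →
      (k : Matrix ι ι F) *ᵥ b = b → ∀ x, f ((k : Matrix ι ι F) *ᵥ x) p = f x p ∧
        f ((k : Matrix ι ι F) *ᵥ x) b = f x b := fun {k} hk h1 h3 x =>
    ⟨by conv_lhs => rw [← h1]; exact hiso hk x p, by conv_lhs => rw [← h3]; exact hiso hk x b⟩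
  -- a reflection fixing both points
  have hrefl : ∀ z, f z p = 0 → f z b = 0 → q z = 1 → stv hf z 1 ∈ K ∧
      (stv hf z 1 : Matrix ι ι F) *ᵥ p = p ∧ (stv hf z 1 : Matrix ι ι F) *ᵥ b = b := by
    intro z hzp hzb hz
    refine ⟨?_, ?_, ?_⟩
    · have h := stv_mem hf h2 hpol hp hb hpb hK hn (x := z) (by rw [hz]; exact one_ne_zero)
      rwa [hz, inv_one] at h
    · rw [stv_mulVec, swap_zero hf hzp, mul_zero, zero_smul, add_zero]
    · rw [stv_mulVec, swap_zero hf hzb, mul_zero, zero_smul, add_zero]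
  obtain ⟨g1, hg1K, hg1p, hg1b, hg1u⟩ : ∃ g1, (g1 ∈ K → g ∈ K) ∧ (g1 : Matrix ι ι F) *ᵥ p = p ∧
      (g1 : Matrix ι ι F) *ᵥ b = b ∧ ((g1 : Matrix ι ι F) *ᵥ u = u ∧ g1 ∈ Cfsg.isometryGroup F ⇑q) := by
    obtain ⟨hgup, hgub⟩ := hfp hg hgp hgb u
    rw [hup] at hgup
    rw [hub] at hgub
    obtain ⟨u', hu'⟩ : ∃ u', u' = (g : Matrix ι ι F) *ᵥ u := ⟨_, rfl⟩
    rw [← hu'] at hgup hgub
    by_cases h : f u' u = 0
    · refine ⟨g, id, hgp, hgb, ?_, hg⟩
      rw [← hu']
      have he := hexp u' hgup hgub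
      rw [h, zero_smul, add_zero] at he
      have h1 : f u' w ≠ 0 := fun h0 => by rw [h0, zero_smul] at he; exact hne0 hu (hu' ▸ he)
      rw [he, h01 _ h1, one_smul]
    · have h1 := h01 _ h
      have hzq : q (u' + u) = 1 := by
        rw [q_add hf h2 hpol, h1, hu', Quad.mem_iso.1 hg]
        linear_combination (q u) * h2
      obtain ⟨hsK, hsp, hsb⟩ := hrefl (u' + u) (by rw [hf.bilinear.add_left, hgup, hup, add_zero])
        (by rw [hf.bilinear.add_left, hgub, hub, add_zero]) hzq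
      refine ⟨stv hf (u' + u) 1 * g, fun h => (Subgroup.mul_mem_cancel_left K hsK).1 h, ?_, ?_, ?_,
        mul_mem (K_le hf h2 hpol hp hb hpb hK hsK) hg⟩
      · rw [gl_mul_mulVec, hgp, hsp]
      · rw [gl_mul_mulVec, hgb, hsb]
      · rw [gl_mul_mulVec, ← hu', stv_mulVec, hf.bilinear.add_right, hf.alternating, h1, zero_add, one_mul, one_smul,
          ← add_assoc, vadd_self h2, zero_add]
  refine hg1K ?_
  obtain ⟨hg1u, hg1⟩ := hg1u
  obtain ⟨g2, hg2K, hg2p, hg2b, hg2u, hg2w⟩ : ∃ g2, (g2 ∈ K → g1 ∈ K) ∧ (g2 : Matrix ι ι F) *ᵥ p = p ∧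
      (g2 : Matrix ι ι F) *ᵥ b = b ∧ (g2 : Matrix ι ι F) *ᵥ u = u ∧ (g2 : Matrix ι ι F) *ᵥ w = w := by
    obtain ⟨hgwp, hgwb⟩ := hfp hg1 hg1p hg1b w
    rw [hwp] at hgwp
    rw [hwb] at hgwb
    have he := hexp _ hgwp hgwb
    have h1 : f ((g1 : Matrix ι ι F) *ᵥ w) u = 1 := by
      conv_lhs => rw [← hg1u]
      rw [hiso hg1, hwu]
    rw [h1, one_smul] at he
    by_cases h : f ((g1 : Matrix ι ι F) *ᵥ w) w = 0
    · rw [h, zero_smul, zero_add] at he
      exact ⟨g1, id, hg1p, hg1b, hg1u, he⟩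
    · rw [h01 _ h, one_smul] at he
      have hqu : q u = 1 := by
        have hq := Quad.mem_iso.1 hg1 w
        rw [he, q_add hf h2 hpol, huw] at hq
        linear_combination hq - h2
      obtain ⟨hsK, hsp, hsb⟩ := hrefl u hup hub hqu
      refine ⟨stv hf u 1 * g1, fun h => (Subgroup.mul_mem_cancel_left K hsK).1 h, ?_, ?_, ?_, ?_⟩
      · rw [gl_mul_mulVec, hg1p, hsp]
      · rw [gl_mul_mulVec, hg1b, hsb]
      · rw [gl_mul_mulVec, hg1u, stv_mulVec, hf.alternating, mul_zero, zero_smul, add_zero]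
      · rw [gl_mul_mulVec, he, stv_mulVec, hf.bilinear.add_left, hf.alternating, hwu, zero_add, one_mul, one_smul,
          add_comm u w, add_assoc, vadd_self h2, add_zero]
  refine hg2K ?_
  have hone : g2 = 1 := gl_ext_vec fun x => by
    obtain ⟨hxp, hxb⟩ := prj_orth hf h2 hpb x
    rw [Units.val_one, one_mulVec, decomp hf h2 p b x, hexp _ hxp hxb]
    simp only [mulVec_add, mulVec_smul, hg2p, hg2b, hg2u, hg2w]
  rw [hone]
  exact one_mem K

theorem iso_le_K [Fintype F] (hn : 2 < Fintype.card ι) : Cfsg.isometryGroup F ⇑q ≤ K := by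
  by_cases hex : Fintype.card F ≠ 2 ∨ Fintype.card ι ≠ 4
  swap
  · push Not at hex
    exact iso_le_K_small hf h2 hpol hp hb hpb hK hex.1 hex.2
  have hfun : QuadraticMap.polar ⇑q = f := funext₂ hpol
  have hQ : IsNondegenerateQuadraticForm ⇑q :=
    ⟨fun c v => q_smul c v, by rw [hfun]; exact hf.bilinear, by rw [hfun]; exact hf.nondegenerate⟩
  refine (iso_le_reflGroup hQ hex).trans ((Subgroup.closure_le _).2 ?_)
  rintro r ⟨-, v, hv, hr⟩
  have : r = stv hf v (q v)⁻¹ := gl_ext_vec fun x => by rw [hr x, isRefl_stv hf h2 hpol hv x]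
  rw [this]
  exact stv_mem hf h2 hpol hp hb hpb hK hn hv

omit hK in
theorem even_rs [Fintype F] {u v : ι → F} (w : ι → F) (hu : q u = 0) (huw : f u w = 1) (hvu : f v u = 0)
    (hvw : f v w = 0) : Even (wrk (rs hf u v (q v))) := by
  rcases eq_or_ne v 0 with rfl | hv
  · rw [QuadraticMap.map_zero, rs_one hf h2]
    refine ⟨0, ?_⟩
    show Module.finrank F ↥(moved (1 : GL ι F)) = 0 + 0
    rw [Submodule.finrank_eq_zero.2 (LinearMap.range_eq_bot.2 (LinearMap.ext fun x => by
      rw [disp_apply, Units.val_one, one_mulVec, sub_self]; rfl))]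
  have hwu : f w u = 1 := by rw [comm h2 hf, huw]
  obtain ⟨z, hzu, hzw, hvz⟩ := exists_dual_orth hf h2 huw hvu hvw hv
  have hd : ∀ x, disp (rs hf u v (q v)) x = (f x v + q v * f x u) • u + f x u • v := fun x => by
    rw [disp_apply, rs_mulVec hf h2 hvu]
    match_scalars
    · ring
    · linear_combination (-(f x v + q v * f x u)) * h2
    · linear_combination (-(f x u)) * h2
  have hmoved : moved (rs hf u v (q v)) = Submodule.span F (Set.range ![u, v]) := by
    refine le_antisymm ?_ (Submodule.span_le.2 ?_)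
    · rintro _ ⟨x, rfl⟩
      rw [hd]
      exact Submodule.add_mem _ (Submodule.smul_mem _ _ (Submodule.subset_span ⟨0, rfl⟩))
        (Submodule.smul_mem _ _ (Submodule.subset_span ⟨1, rfl⟩))
    · rintro _ ⟨i, rfl⟩
      fin_cases i
      · refine ⟨z, ?_⟩
        rw [hd, comm h2 hf z v, hvz, hzu]
        simp
      · refine ⟨w + q v • z, ?_⟩
        show _ = v
        rw [hd]
        simp only [hf.bilinear.add_left, hf.bilinear.smul_left, comm h2 hf z v, comm h2 hf w v, hvw, hvz, hzu, hwu]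
        match_scalars
        · linear_combination (q v) * h2
        · ring
  have hli : LinearIndependent F ![u, v] := by
    rw [LinearIndependent.pair_iff]
    intro s t hst
    have h := congrArg (fun x => f x w) hst
    simp only [hf.bilinear.add_left, hf.bilinear.smul_left, huw, hvw, zero_left hf, mul_one, mul_zero, add_zero] at h
    subst h
    rw [zero_smul, zero_add] at hst
    exact ⟨rfl, (smul_eq_zero.1 hst).resolve_right hv⟩
  refine ⟨1, ?_⟩
  show Module.finrank F ↥(moved (rs hf u v (q v))) = 1 + 1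
  rw [hmoved, finrank_span_eq_card hli, Fintype.card_fin]

omit hK in
/-- the overgroups of both radicals inside the isometry group -/
theorem group_cases [Fintype F] (hn : 2 < Fintype.card ι) {L : Subgroup (GL ι F)}
    (hle : L ≤ Cfsg.isometryGroup F ⇑q) (hgen : gensW hf q p b ⊆ L) :
    L = Cfsg.isometryGroup F ⇑q ∨
      ∀ g, g ∈ L ↔ (g ∈ Cfsg.isometryGroup F ⇑q ∧ Even ((g : Matrix ι ι F) - 1).rank) := by
  obtain ⟨K, hK⟩ := exists_K hf h2 hpol hp hb hpb
  have hfun : QuadraticMap.polar ⇑q = f := funext₂ hpol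
  have hQ : IsNondegenerateQuadraticForm ⇑q :=
    ⟨fun c v => q_smul c v, by rw [hfun]; exact hf.bilinear, by rw [hfun]; exact hf.nondegenerate⟩
  have hL0 : Subgroup.closure (gensW hf q p b) ≤ L := (Subgroup.closure_le _).2 hgen
  have hL0' : Subgroup.closure (gensW hf q p b) ≤ Cfsg.isometryGroup F ⇑q := hL0.trans hle
  have h01 : Even (wrk (1 : GL ι F)) := by rw [(spn_one hQ).1]; exact ⟨0, rfl⟩
  have heven : ∀ g ∈ Subgroup.closure (gensW hf q p b), Even (wrk g) := by
    intro g hg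
    induction hg using Subgroup.closure_induction with
    | mem x hx =>
      obtain ⟨v, hvp, hvb, rfl | rfl⟩ := hx
      · exact even_rs hf h2 hpol hp hb hpb b hp hpb hvp hvb
      · exact even_rs hf h2 hpol hp hb hpb p hb (by rw [comm h2 hf, hpb]) hvb hvp
    | one => exact h01
    | mul x y hx hy ihx ihy => exact (parity hf h2 hpol hn (hL0' hx) (hL0' hy)).2 (iff_of_true ihx ihy)
    | inv x hx ih =>
      have h := parity hf h2 hpol hn (hL0' hx) (inv_mem (hL0' hx))
      rw [mul_inv_cancel] at h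
      exact (h.1 h01).1 ih
  have ht : ¬ Even (wrk (stv hf (p + b) 1)) := by
    have hq1 := q_pb hf h2 hpol hp hb hpb
    have h := (refl_spn hQ (t0_isometry hf h2 hpol hp hb hpb) (v := p + b) (by
      have h := isRefl_stv hf h2 hpol (x := p + b) (by rw [hq1]; exact one_ne_zero)
      rwa [hq1, inv_one] at h) (by rw [hq1]; exact one_ne_zero)).1
    rw [h]
    exact Nat.not_even_one
  have hodd : ∀ g, g * stv hf (p + b) 1 ∈ Subgroup.closure (gensW hf q p b) → g ∈ Cfsg.isometryGroup F ⇑q →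
      ¬ Even (wrk g) := fun g hg hgi he =>
    ht (((parity hf h2 hpol hn hgi (t0_isometry hf h2 hpol hp hb hpb)).1 (heven _ hg)).1 he)
  by_cases ht0 : stv hf (p + b) 1 ∈ L
  · refine Or.inl (le_antisymm hle fun g hg => ?_)
    rcases (hK g).1 (iso_le_K hf h2 hpol hp hb hpb hK hn hg) with h | h
    · exact hL0 h
    · have := L.mul_mem (hL0 h) ht0
      rwa [mul_assoc, t0_sq hf h2, mul_one] at this
  · refine Or.inr fun g => ⟨fun hg => ⟨hle hg, ?_⟩, fun ⟨hg, he⟩ => ?_⟩
    · rw [wrk_eq_rank]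
      rcases (hK g).1 (iso_le_K hf h2 hpol hp hb hpb hK hn (hle hg)) with h | h
      · exact heven g h
      · exact absurd ((L.mul_mem_cancel_left hg).1 (hL0 h)) ht0
    · rw [wrk_eq_rank] at he
      rcases (hK g).1 (iso_le_K hf h2 hpol hp hb hpb hK hn hg) with h | h
      · exact hL0 h
      · exact absurd he (hodd g h hg)

end CfsgLib.Perm.Trans.Symp.O2
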