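import Cfsg.Agent.Lib.Perm.Trans.SympO2.Basic
import Mathlib.GroupTheory.PGroup

/-!
# Two-subgroups normalised by a point stabiliser, and the graph of a transvection-free radical subgroup
-/

set_option autoImplicit false
set_option linter.all false

namespace CfsgLib.Perm.Trans.Symp.O2

open scoped Matrix
open Matrix Cfsg.Geo CfsgLib.Perm.Asch CfsgLib.Perm.Trans CfsgLib.Perm.Trans.Symp

variable {ι : Type} [Fintype ι] [DecidableEq ι] {F : Type*} [Field F]
variable {f : (ι → F) → (ι → F) → F} (hf : IsSymplecticForm f) (h2 : (2 : F) = 0)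
variable {a b : ι → F} (hab : f a b = 1)
include hf h2 hab

theorem prj_add_line (y : ι → F) (t : F) : prj (f := f) a b (y + t • a) = prj (f := f) a b y := by
  simp only [prj, hf.bilinear.add_left, hf.bilinear.smul_left, hf.alternating, hab]
  match_scalars
  · ring
  · linear_combination t * h2
  · ring

theorem prj_of_orth {w : ι → F} (hwa : f w a = 0) (hwb : f w b = 0) : prj (f := f) a b w = w := by
  rw [prj, hwa, hwb, zero_smul, zero_smul, add_zero, add_zero]

theorem prj_comp {g : GL ι F} (hga : (g : Matrix ι ι F) *ᵥ a = a) {x : ι → F} (hxa : f x a = 0) :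
    prj (f := f) a b ((g : Matrix ι ι F) *ᵥ prj (f := f) a b x) = prj (f := f) a b ((g : Matrix ι ι F) *ᵥ x) := by
  have hx : x = prj (f := f) a b x + f x b • a := by
    conv_lhs => rw [decomp hf h2 a b x, hxa, zero_smul, add_zero]
  conv_rhs => rw [hx, mulVec_add, mulVec_smul, hga, prj_add_line hf h2 hab]

/-- transitivity of the point stabiliser on the nonzero vectors orthogonal to the pair -/
theorem exists_stab_move {u w : ι → F} (hua : f u a = 0) (hub : f u b = 0) (hu : u ≠ 0) (hwa : f w a = 0)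
    (hwb : f w b = 0) (hw : w ≠ 0) :
    ∃ h ∈ isoSub f, (h : Matrix ι ι F) *ᵥ a = a ∧ (h : Matrix ι ι F) *ᵥ u = w := by
  have hstep : ∀ u w : ι → F, f u a = 0 → f w a = 0 → f u w ≠ 0 →
      ∃ h ∈ isoSub f, (h : Matrix ι ι F) *ᵥ a = a ∧ (h : Matrix ι ι F) *ᵥ u = w := by
    intro u w hua hwa huw
    refine ⟨stv hf (u + w) (f u w)⁻¹, stv_iso hf _ _, ?_, ?_⟩
    · rw [stv_mulVec, hf.bilinear.add_right, swap_zero hf hua, swap_zero hf hwa, add_zero, mul_zero, zero_smul,
        add_zero]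
    · rw [stv_mulVec, hf.bilinear.add_right, hf.alternating, zero_add, inv_mul_cancel₀ huw, one_smul, ← add_assoc,
        vadd_self h2, zero_add]
  by_cases huw : f u w = 0
  swap
  · exact hstep u w hua hwa huw
  obtain ⟨z, hza, hzu, hzw⟩ : ∃ z, f z a = 0 ∧ f u z ≠ 0 ∧ f z w ≠ 0 := by
    obtain ⟨z₁, h1a, -, h1⟩ := exists_dual_orth hf h2 hab hua hub hu
    obtain ⟨z₂, h3a, -, h3⟩ := exists_dual_orth hf h2 hab hwa hwb hw
    by_cases e1 : f w z₁ = 0
    swap
    · exact ⟨z₁, h1a, by rw [h1]; exact one_ne_zero, fun h0 => e1 (swap_zero hf h0)⟩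
    by_cases e3 : f u z₂ = 0
    swap
    · exact ⟨z₂, h3a, e3, fun h0 => by rw [swap_zero hf h0] at h3; exact zero_ne_one h3⟩
    refine ⟨z₁ + z₂, by rw [hf.bilinear.add_left, h1a, h3a, add_zero], ?_, ?_⟩
    · rw [hf.bilinear.add_right, h1, e3, add_zero]; exact one_ne_zero
    · rw [comm h2 hf, hf.bilinear.add_right, e1, h3, zero_add]; exact one_ne_zero
  obtain ⟨h₁, h1i, h1a, h1u⟩ := hstep u z hua hza hzu
  obtain ⟨h₂, h2i, h2a, h2u⟩ := hstep z w hza hwa hzw
  exact ⟨h₂ * h₁, mul_mem h2i h1i, by rw [gl_mul_mulVec, h1a, h2a], by rw [gl_mul_mulVec, h1u, h2u]⟩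

/-- two-groups normalised by the point stabiliser consist of the elements `rs a v c` -/
theorem radical_form [Fintype F] (hn : 2 < Fintype.card ι) {N : Subgroup (GL ι F)} (hN : IsPGroup 2 ↥N)
    (hle : ∀ g ∈ N, g ∈ isoSub f ∧ (g : Matrix ι ι F) *ᵥ a = a)
    (hnorm : ∀ h ∈ isoSub f, (h : Matrix ι ι F) *ᵥ a = a → ∀ g ∈ N, h⁻¹ * g * h ∈ N) {g : GL ι F} (hg : g ∈ N) :
    ∃ v c, f v a = 0 ∧ f v b = 0 ∧ g = rs hf a v c := by
  classical
  have hfa : ∀ g ∈ N, ∀ x, f ((g : Matrix ι ι F) *ᵥ x) a = f x a := fun g hg x => by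
    have h := mem_isoSub.1 (hle g hg).1 x a
    rwa [(hle g hg).2] at h
  let W : Submodule F (ι → F) := LinearMap.ker (sfun hf a) ⊓ LinearMap.ker (sfun hf b)
  have hW : ∀ w : ↥W, f w.1 a = 0 ∧ f w.1 b = 0 := fun w =>
    ⟨LinearMap.mem_ker.1 (Submodule.mem_inf.1 w.2).1, LinearMap.mem_ker.1 (Submodule.mem_inf.1 w.2).2⟩
  have hmk : ∀ x, prj (f := f) a b x ∈ W := fun x =>
    Submodule.mem_inf.2 ⟨LinearMap.mem_ker.2 (prj_orth hf h2 hab x).1, LinearMap.mem_ker.2 (prj_orth hf h2 hab x).2⟩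
  letI act : MulAction ↥N ↥W :=
    { smul := fun g w => ⟨prj (f := f) a b ((g.1 : Matrix ι ι F) *ᵥ w.1), hmk _⟩
      one_smul := fun w => Subtype.ext (by
        show prj (f := f) a b (((1 : GL ι F) : Matrix ι ι F) *ᵥ w.1) = w.1
        rw [Units.val_one, one_mulVec, prj_of_orth hf h2 hab (hW w).1 (hW w).2])
      mul_smul := fun g h w => Subtype.ext (by
        show prj (f := f) a b (((g.1 * h.1 : GL ι F) : Matrix ι ι F) *ᵥ w.1) =
          prj (f := f) a b ((g.1 : Matrix ι ι F) *ᵥ prj (f := f) a b ((h.1 : Matrix ι ι F) *ᵥ w.1))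
        rw [gl_mul_mulVec, prj_comp hf h2 hab (hle g.1 g.2).2 (by rw [hfa h.1 h.2]; exact (hW w).1)]) }
  haveI : Fact (Nat.Prime 2) := ⟨Nat.prime_two⟩
  -- a nonzero fixed vector
  obtain ⟨w₀, hw₀, hw₀0⟩ : ∃ w₀ : ↥W, w₀ ∈ MulAction.fixedPoints ↥N ↥W ∧ w₀ ≠ 0 := by
    obtain ⟨z, hza, hzb, hz⟩ := exists_orth hf h2 (p := a) (b := b) hn
    have hdim : 0 < Module.finrank F ↥W := Module.finrank_pos_iff_exists_ne_zero.2
      ⟨⟨z, Submodule.mem_inf.2 ⟨LinearMap.mem_ker.2 hza, LinearMap.mem_ker.2 hzb⟩⟩, fun h0 =>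
        hz (congrArg Subtype.val h0)⟩
    have hzero : (0 : ↥W) ∈ MulAction.fixedPoints ↥N ↥W := fun g => Subtype.ext (by
      show prj (f := f) a b ((g.1 : Matrix ι ι F) *ᵥ (0 : ι → F)) = 0
      rw [mulVec_zero, prj_of_orth hf h2 hab (zero_left hf a) (zero_left hf b)])
    have heven : 2 ∣ Nat.card ↥W := by
      haveI : CharP F 2 := CharTwo.of_one_ne_zero_of_two_eq_zero one_ne_zero h2
      obtain ⟨k, -, hk⟩ := FiniteField.card F 2
      rw [Nat.card_eq_fintype_card, Module.card_eq_pow_finrank (K := F), hk]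
      exact dvd_pow (dvd_pow_self 2 k.ne_zero) (by omega)
    have hfix : 2 ∣ Nat.card ↥(MulAction.fixedPoints ↥N ↥W) := by
      have h := hN.card_modEq_card_fixedPoints ↥W
      exact (Nat.ModEq.dvd_iff h dvd_rfl).1 heven
    have hpos : 0 < Nat.card ↥(MulAction.fixedPoints ↥N ↥W) := Nat.card_pos_iff.2 ⟨⟨⟨0, hzero⟩⟩, inferInstance⟩
    have h1 : 1 < Nat.card ↥(MulAction.fixedPoints ↥N ↥W) := by
      have := Nat.le_of_dvd hpos hfix
      omega
    haveI := Finite.one_lt_card_iff_nontrivial.1 h1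
    obtain ⟨⟨w₀, hw₀⟩, hne⟩ := exists_ne (⟨0, hzero⟩ : ↥(MulAction.fixedPoints ↥N ↥W))
    exact ⟨w₀, hw₀, fun h0 => hne (Subtype.ext h0)⟩
  have htriv : ∀ g ∈ N, ∀ w, f w a = 0 → f w b = 0 → prj (f := f) a b ((g : Matrix ι ι F) *ᵥ w) = w := by
    intro g hg w hwa hwb
    rcases eq_or_ne w 0 with rfl | hw
    · rw [mulVec_zero, prj_of_orth hf h2 hab hwa hwb]
    obtain ⟨h, hh, hha, hhw⟩ := exists_stab_move hf h2 hab (hW w₀).1 (hW w₀).2
      (fun h0 => hw₀0 (Subtype.ext h0)) hwa hwb hw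
    have hk := hnorm h hh hha g hg
    have h0 : prj (f := f) a b (((h⁻¹ * g * h : GL ι F) : Matrix ι ι F) *ᵥ w₀.1) = w₀.1 :=
      congrArg Subtype.val (hw₀ ⟨_, hk⟩)
    have h1 := prj_comp hf h2 hab hha (x := ((h⁻¹ * g * h : GL ι F) : Matrix ι ι F) *ᵥ w₀.1)
      (by rw [hfa _ hk]; exact (hW w₀).1)
    rw [h0, hhw, prj_of_orth hf h2 hab hwa hwb, ← gl_mul_mulVec, show h * (h⁻¹ * g * h) = g * h by group,
      gl_mul_mulVec, hhw] at h1
    exact h1.symm
  obtain ⟨hgi, hga⟩ := hle g hg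
  obtain ⟨y, hy⟩ : ∃ y, y = (g : Matrix ι ι F) *ᵥ b := ⟨_, rfl⟩
  have hba : f b a = 1 := by rw [comm h2 hf, hab]
  have hya : f y a = 1 := by rw [hy, hfa g hg, hba]
  obtain ⟨hva, hvb⟩ := prj_orth hf h2 hab y
  obtain ⟨v, hv⟩ : ∃ v, v = prj (f := f) a b y := ⟨_, rfl⟩
  rw [← hv] at hva hvb
  have hyd : y = v + f y b • a + b := by
    have h := decomp hf h2 a b y
    rwa [← hv, hya, one_smul] at h
  obtain ⟨c, hc⟩ : ∃ c, c = f y b := ⟨_, rfl⟩
  rw [← hc] at hyd
  refine ⟨v, c, hva, hvb, gl_ext_vec fun x => ?_⟩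
  obtain ⟨hza, hzb⟩ := prj_orth hf h2 hab x
  obtain ⟨z, hz⟩ : ∃ z, z = prj (f := f) a b x := ⟨_, rfl⟩
  rw [← hz] at hza hzb
  have hgz : (g : Matrix ι ι F) *ᵥ z = z + f ((g : Matrix ι ι F) *ᵥ z) b • a := by
    have h := decomp hf h2 a b ((g : Matrix ι ι F) *ᵥ z)
    rwa [htriv g hg z hza hzb, hfa g hg, hza, zero_smul, add_zero] at h
  obtain ⟨t, ht⟩ : ∃ t, t = f ((g : Matrix ι ι F) *ᵥ z) b := ⟨_, rfl⟩
  rw [← ht] at hgz
  have htv : t = f z v := by
    have h := mem_isoSub.1 hgi z b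
    rw [← hy, hgz, hyd, hzb] at h
    simp only [hf.bilinear.add_left, hf.bilinear.add_right, hf.bilinear.smul_left, hf.bilinear.smul_right,
      hf.alternating, hza, hzb, hab, swap_zero hf hva] at h
    linear_combination h - f z v * h2
  have hd := decomp hf h2 a b x
  rw [← hz] at hd
  rw [rs_mulVec hf h2 hva, hd]
  simp only [mulVec_add, mulVec_smul, hga, ← hy, hgz, hyd, htv, hf.bilinear.add_left, hf.bilinear.smul_left,
    hf.alternating, hza, hzb, hab, hba, hvb, swap_zero hf hva, swap_zero hf hvb]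
  match_scalars
  all_goals ring

/-- a transvection-free subgroup of the radical of full order is a graph -/
theorem exists_graph [Fintype F] {X : Subgroup (GL ι F)}
    (hform : ∀ g ∈ X, ∃ v c, f v a = 0 ∧ f v b = 0 ∧ g = rs hf a v c)
    (hclean : ∀ d : F, stv hf a d ∈ X → d = 0) (hcard : Nat.card ↥X = Fintype.card F ^ (Fintype.card ι - 2)) :
    ∃ φ, Graph hf X a φ := by
  classical
  let A : (ι → F) →ₗ[F] (Fin 2 → F) := LinearMap.pi ![sfun hf a, sfun hf b]
  have hba : f b a = 1 := by rw [comm h2 hf, hab]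
  have hAs : LinearMap.range A = ⊤ := LinearMap.range_eq_top.2 fun y => ⟨y 1 • a + y 0 • b, funext fun i => by
    show (![sfun hf a, sfun hf b] i) (y 1 • a + y 0 • b) = y i
    fin_cases i
    · show f (y 1 • a + y 0 • b) a = y 0
      rw [hf.bilinear.add_left, hf.bilinear.smul_left, hf.bilinear.smul_left, hf.alternating, hba]
      ring
    · show f (y 1 • a + y 0 • b) b = y 1
      rw [hf.bilinear.add_left, hf.bilinear.smul_left, hf.bilinear.smul_left, hf.alternating, hab]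
      ring⟩
  have hcardW : Nat.card ↥(LinearMap.ker A) = Nat.card ↥X := by
    have h1 := LinearMap.finrank_range_add_finrank_ker A
    rw [hAs, finrank_top, Module.finrank_fintype_fun_eq_card, Module.finrank_fintype_fun_eq_card,
      Fintype.card_fin] at h1
    rw [hcard, Nat.card_eq_fintype_card, Module.card_eq_pow_finrank (K := F)]
    congr 1
    omega
  choose vv cc hva hvb hvg using fun g : ↥X => hform g.1 g.2
  have huniq : ∀ v, f v a = 0 → ∀ c d, rs hf a v c ∈ X → rs hf a v d ∈ X → c = d := by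
    intro v hv c d h3 h4
    have h := X.mul_mem h3 h4
    rw [rs_mul hf h2 hv hv, vadd_self h2, hf.alternating, add_zero, rs_zero hf h2] at h
    exact eq_of_add_eq_zero h2 (hclean _ h)
  let ψ : ↥X → ↥(LinearMap.ker A) := fun g => ⟨vv g, LinearMap.mem_ker.2 (funext fun i => by
    fin_cases i
    · exact hva g
    · exact hvb g)⟩
  have hψ : Function.Injective ψ := by
    intro g h e
    have e' : vv g = vv h := congrArg Subtype.val e
    refine Subtype.ext ?_
    have hg := g.2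
    have hh := h.2
    rw [hvg g] at hg
    rw [hvg h, ← e'] at hh
    rw [hvg g, hvg h, ← e', huniq _ (hva g) _ _ hg hh]
  have hbij := (Nat.bijective_iff_injective_and_card ψ).2 ⟨hψ, hcardW.symm⟩
  have hex : ∀ v, f v a = 0 → ∃ c, rs hf a v c ∈ X := by
    intro v hv
    obtain ⟨h1, h3⟩ := prj_orth hf h2 hab v
    obtain ⟨g, hg⟩ := hbij.2 ⟨prj (f := f) a b v, LinearMap.mem_ker.2 (funext fun i => by
      fin_cases i
      · exact h1
      · exact h3)⟩
    have hg' : vv g = prj (f := f) a b v := congrArg Subtype.val hg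
    refine ⟨cc g, ?_⟩
    have hv' : v = prj (f := f) a b v + f v b • a := by
      conv_lhs => rw [decomp hf h2 a b v, hv, zero_smul, add_zero]
    rw [hv', rs_mod hf h2 h1, ← hg', ← hvg g]
    exact g.2
  let φ : (ι → F) → F := fun v => if h : ∃ c, rs hf a v c ∈ X then h.choose else 0
  have hmem : ∀ v, f v a = 0 → rs hf a v (φ v) ∈ X := fun v hv => by
    show rs hf a v (if h : ∃ c, rs hf a v c ∈ X then h.choose else 0) ∈ X
    rw [dif_pos (hex v hv)]
    exact (hex v hv).choose_spec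
  refine ⟨φ, hmem, fun v w hv hw => huniq (v + w) (by rw [hf.bilinear.add_left, hv, hw, add_zero]) _ _
    (hmem _ (by rw [hf.bilinear.add_left, hv, hw, add_zero])) ?_⟩
  rw [← rs_mul hf h2 hv hw]
  exact X.mul_mem (hmem v hv) (hmem w hw)

end CfsgLib.Perm.Trans.Symp.O2
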