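import Cfsg.Agent.Lib.Perm.Trans.SympO2.Perp
import Cfsg.Agent.Lib.Perm.Trans.SympGen
import Cfsg.Agent.Lib.Classical.SpFourTwo
import Cfsg.Agent.S5944
import Cfsg.Agent.S5945

/-!
# The exception in `Sp_4(2)`: a product of two commuting transvections
-/

set_option autoImplicit false
set_option linter.all false

namespace CfsgLib.Perm.Trans.Symp.O2

open scoped Matrix
open Matrix Cfsg.Geo CfsgLib.Perm.Asch CfsgLib.Perm.Trans CfsgLib.Perm.Trans.Symp

variable {ι : Type} [Fintype ι] [DecidableEq ι] {F : Type*} [Field F]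
variable {f : (ι → F) → (ι → F) → F} (hf : IsSymplecticForm f)
variable (h2 : (2 : F) = 0)
variable {L : Subgroup (GL ι F)} {a : ι → F} {φ : (ι → F) → F} (hS : Setup hf L a φ)
include hf h2 hS

/-- the order of the exceptional groups -/
theorem small_card [Fintype F] (hq : Fintype.card F = 2) (hn : Fintype.card ι = 4) {g₀ : GL ι F} (hg₀ : g₀ ∈ L)
    (hga : f a ((g₀ : Matrix ι ι F) *ᵥ a) ≠ 0) {p c : ι → F} (hp : InS L a p) (hc : InS L a c) (hpc : f p c = 0)
    (hind : c ∉ Submodule.span F ({p} : Set (ι → F))) (hD : stv hf p 1 * stv hf c 1 ∈ L) :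
    ∃ k, 2 ≤ k ∧ Nat.card ↥L = 60 * k := by
  classical
  have h01 : ∀ t : F, t = 0 ∨ t = 1 := fun t => by
    by_contra hne
    push Not at hne
    have h1 : ({0, 1, t} : Finset F).card = 3 := by
      rw [Finset.card_insert_of_notMem (by simp [Ne.symm hne.1]),
        Finset.card_insert_of_notMem (by simp [Ne.symm hne.2]), Finset.card_singleton]
    have h3 := Finset.card_le_univ ({0, 1, t} : Finset F)
    omega
  obtain ⟨k₁, hk₁, r, hr, hpe⟩ := id hp
  have hr1 : r = 1 := (h01 r).resolve_left hr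
  rw [hr1, one_smul] at hpe
  obtain ⟨b, hbd⟩ : ∃ b, b = ((k₁ * g₀ : GL ι F) : Matrix ι ι F) *ᵥ a := ⟨_, rfl⟩
  have hb : InS L a b := hbd ▸ InS.self.move (L.mul_mem hk₁ hg₀)
  have hpb : f p b = 1 := by
    rw [hbd, hpe, gl_mul_mulVec, mem_isoSub.1 (hS.le hk₁)]
    exact (h01 _).resolve_left hga
  have hbp : f b p = 1 := by rw [comm h2 hf, hpb]
  -- move `c` into the orthogonal of the pair
  obtain ⟨u, hu, hup, hub, hu0, hDu⟩ : ∃ u, InS L a u ∧ f u p = 0 ∧ f u b = 0 ∧ u ≠ 0 ∧
      stv hf p 1 * stv hf u 1 ∈ L := by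
    have hcp := swap_zero hf hpc
    obtain ⟨hxp, hxb⟩ := prj_orth hf h2 hpb c
    obtain ⟨x, hx⟩ : ∃ x, x = prj (f := f) p b c := ⟨_, rfl⟩
    rw [← hx] at hxp hxb
    have hdec : c = x + f c b • p := by
      have h := decomp hf h2 p b c
      rwa [← hx, hcp, zero_smul, add_zero] at h
    have hx0 : x ≠ 0 := fun h0 => hind (Submodule.mem_span_singleton.2 ⟨f c b, by
      rw [h0, zero_add] at hdec; exact hdec.symm⟩)
    rcases h01 (f c b) with h | h
    · rw [h, zero_smul, add_zero] at hdec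
      exact ⟨c, hc, hcp, h, hdec ▸ hx0, hD⟩
    · obtain ⟨z, hzp, hzb, hxz⟩ := exists_dual_orth hf h2 hpb hxp hxb hx0
      rw [h, one_smul] at hdec
      have hR := Phi_spec hf h2 hS hp hzp
      obtain ⟨R, hRd⟩ : ∃ R, R = rs hf p z (Phi hf L p z) := ⟨_, rfl⟩
      rw [← hRd] at hR
      have hRc : (R : Matrix ι ι F) *ᵥ c = x := by
        rw [hRd, rs_mulVec hf h2 hzp, hdec]
        simp only [hf.bilinear.add_left, hf.alternating, hxp, hxz, swap_zero hf hzp]
        match_scalars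
        · ring
        · linear_combination h2
        · ring
      have hRp : (R : Matrix ι ι F) *ᵥ p = p := by
        rw [hRd, rs_mulVec hf h2 hzp, hf.alternating, swap_zero hf hzp]
        module
      refine ⟨x, hRc ▸ hc.move hR, hxp, hxb, hx0, ?_⟩
      have h := L.mul_mem (L.mul_mem hR hD) (L.inv_mem hR)
      rwa [show R * (stv hf p 1 * stv hf c 1) * R⁻¹ = R * stv hf p 1 * R⁻¹ * (R * stv hf c 1 * R⁻¹) by group,
        stv_conj hf (hS.le hR), stv_conj hf (hS.le hR), hRc, hRp] at h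
  -- every nonzero vector lies in the orbit
  have hDb : InS L a (b + p) := by
    have h := hb.move hDu
    rwa [gl_mul_mulVec, stv_mulVec hf u, swap_zero hf hub, mul_zero, zero_smul, add_zero, stv_mulVec, hbp, one_mul,
      one_smul] at h
  have hlev : ∀ x, f x p = 1 → InS L a x := by
    intro x hx
    obtain ⟨hzp, hzb⟩ := prj_orth hf h2 hpb x
    obtain ⟨z, hz⟩ : ∃ z, z = prj (f := f) p b x := ⟨_, rfl⟩
    rw [← hz] at hzp hzb
    have hdec := decomp hf h2 p b x
    rw [← hz, hx, one_smul] at hdec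
    have h1 := hb.move (Phi_spec hf h2 hS hp hzp)
    have h3 := hDb.move (Phi_spec hf h2 hS hp hzp)
    rw [rs_mulVec hf h2 hzp] at h1 h3
    simp only [hf.bilinear.add_left, hf.alternating, hbp, swap_zero hf hzp, swap_zero hf hzb, add_zero,
      zero_smul, one_smul, mul_one] at h1 h3
    rcases h01 (f x b + Phi hf L p z) with h | h
    · rw [eq_of_add_eq_zero h2 h] at hdec
      rwa [hdec, show z + Phi hf L p z • p + b = b + z + Phi hf L p z • p by abel]
    · rw [show f x b = 1 + Phi hf L p z by linear_combination h - Phi hf L p z * h2, add_smul, one_smul] at hdec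
      rwa [hdec, show z + (p + Phi hf L p z • p) + b = b + p + z + Phi hf L p z • p by abel]
  have hall : ∀ x, x ≠ 0 → InS L a x := by
    intro x hx0
    rcases h01 (f x p) with hxp | hxp
    swap
    · exact hlev x hxp
    obtain ⟨hzp, hzb⟩ := prj_orth hf h2 hpb x
    obtain ⟨z, hz⟩ : ∃ z, z = prj (f := f) p b x := ⟨_, rfl⟩
    rw [← hz] at hzp hzb
    have hdec := decomp hf h2 p b x
    rw [← hz, hxp, zero_smul, add_zero] at hdec
    rcases eq_or_ne z 0 with h0 | h0
    · rw [h0, zero_add] at hdec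
      rcases h01 (f x b) with h | h
      · rw [h, zero_smul] at hdec; exact absurd hdec hx0
      · rw [h, one_smul] at hdec; rwa [hdec]
    obtain ⟨w, hwp, hwb, hzw⟩ := exists_dual_orth hf h2 hpb hzp hzb h0
    have hzS : InS L a z := by
      have hR := Phi_spec hf h2 hS hb hwb
      obtain ⟨R, hRd⟩ : ∃ R, R = rs hf b w (Phi hf L b w) := ⟨_, rfl⟩
      rw [← hRd] at hR
      have hRz : InS L a ((R : Matrix ι ι F) *ᵥ z) := by
        refine hlev _ ?_
        rw [hRd, rs_mulVec hf h2 hwb, hzw, hzb, mul_zero, zero_smul, zero_smul, one_smul, add_zero, add_zero,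
          hf.bilinear.add_left, hzp, hbp, zero_add]
      have h := hRz.move (L.inv_mem hR)
      rwa [gl_inv_mulVec] at h
    rcases h01 (f x b) with h | h
    · rw [h, zero_smul, add_zero] at hdec; rwa [hdec]
    · rw [h, one_smul] at hdec
      have h1 := hzS.move (Phi_spec hf h2 hS hp hwp)
      rw [rs_mulVec hf h2 hwp, hzw, hzp, mul_zero, zero_smul, zero_smul, one_smul, add_zero, add_zero] at h1
      rwa [hdec]
  -- counting
  have hp0 : p ≠ 0 := fun h0 => by rw [h0, zero_left hf] at hpb; exact zero_ne_one hpb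
  letI : MulAction ↥L (ι → F) :=
    { smul := fun g x => (g.1 : Matrix ι ι F) *ᵥ x
      one_smul := fun x => by
        show ((1 : GL ι F) : Matrix ι ι F) *ᵥ x = x
        rw [Units.val_one, one_mulVec]
      mul_smul := fun g h x => gl_mul_mulVec g.1 h.1 x }
  have horb : MulAction.orbit ↥L p = ({0}ᶜ : Set (ι → F)) := by
    refine Set.ext fun x => ⟨?_, fun hx => ?_⟩
    · rintro ⟨g, rfl⟩ h0
      refine hp0 ?_
      rw [← gl_inv_mulVec g.1 p, show ((g.1 : Matrix ι ι F) *ᵥ p) = 0 from h0, mulVec_zero]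
    · obtain ⟨g, hg, s, hs, hxe⟩ := hall x hx
      rw [(h01 s).resolve_left hs, one_smul] at hxe
      exact ⟨⟨g * k₁⁻¹, L.mul_mem hg (L.inv_mem hk₁)⟩, by
        show ((g * k₁⁻¹ : GL ι F) : Matrix ι ι F) *ᵥ p = x
        rw [gl_mul_mulVec, hpe, gl_inv_mulVec, hxe]⟩
  have hidx : (MulAction.stabilizer ↥L p).index = 15 := by
    rw [MulAction.index_stabilizer, horb, Set.ncard_compl, Set.ncard_singleton, Nat.card_eq_fintype_card,
      Fintype.card_fun, hq, hn]
    norm_num
  -- four elements of the radical, and one more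
  let A : (ι → F) →ₗ[F] (Fin 2 → F) := LinearMap.pi ![sfun hf p, sfun hf b]
  have hW : ∀ v : ↥(LinearMap.ker A), f v.1 p = 0 ∧ f v.1 b = 0 := fun v =>
    ⟨congrFun (LinearMap.mem_ker.1 v.2) 0, congrFun (LinearMap.mem_ker.1 v.2) 1⟩
  have hAs : LinearMap.range A = ⊤ := LinearMap.range_eq_top.2 fun y => ⟨y 1 • p + y 0 • b, funext fun i => by
    show (![sfun hf p, sfun hf b] i) (y 1 • p + y 0 • b) = y i
    fin_cases i
    · show f (y 1 • p + y 0 • b) p = y 0
      rw [hf.bilinear.add_left, hf.bilinear.smul_left, hf.bilinear.smul_left, hf.alternating, hbp]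
      ring
    · show f (y 1 • p + y 0 • b) b = y 1
      rw [hf.bilinear.add_left, hf.bilinear.smul_left, hf.bilinear.smul_left, hf.alternating, hpb]
      ring⟩
  have hker : Nat.card ↥(LinearMap.ker A) = 4 := by
    have h1 := LinearMap.finrank_range_add_finrank_ker A
    rw [hAs, finrank_top, Module.finrank_fintype_fun_eq_card, Module.finrank_fintype_fun_eq_card, hn,
      Fintype.card_fin] at h1
    rw [Nat.card_eq_fintype_card, Module.card_eq_pow_finrank (K := F), hq,
      show Module.finrank F ↥(LinearMap.ker A) = 2 by omega]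
    norm_num
  have hGr := Phi_graph hf h2 hS hp
  let hom : Multiplicative ↥(LinearMap.ker A) →* ↥(MulAction.stabilizer ↥L p) :=
    { toFun := fun v => ⟨⟨rs hf p v.toAdd.1 (Phi hf L p v.toAdd.1), hGr.mem _ (hW v.toAdd).1⟩, by
        show (rs hf p v.toAdd.1 (Phi hf L p v.toAdd.1) : Matrix ι ι F) *ᵥ p = p
        rw [rs_mulVec hf h2 (hW v.toAdd).1, hf.alternating, swap_zero hf (hW v.toAdd).1]
        module⟩
      map_one' := Subtype.ext (Subtype.ext (by
        show rs hf p (0 : ι → F) (Phi hf L p 0) = 1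
        rw [hGr.zero hf h2, rs_one hf h2]))
      map_mul' := fun v w => Subtype.ext (Subtype.ext (by
        show rs hf p (v.toAdd.1 + w.toAdd.1) (Phi hf L p (v.toAdd.1 + w.toAdd.1)) =
          rs hf p v.toAdd.1 (Phi hf L p v.toAdd.1) * rs hf p w.toAdd.1 (Phi hf L p w.toAdd.1)
        rw [rs_mul hf h2 (hW v.toAdd).1 (hW w.toAdd).1, hGr.add _ _ (hW v.toAdd).1 (hW w.toAdd).1])) }
  have hinj : Function.Injective hom := fun v w h => by
    have h' : rs hf p v.toAdd.1 (Phi hf L p v.toAdd.1) = rs hf p w.toAdd.1 (Phi hf L p w.toAdd.1) :=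
      congrArg (fun g : ↥(MulAction.stabilizer ↥L p) => g.1.1) h
    exact Multiplicative.toAdd.injective (Subtype.ext
      (rs_inj hf h2 hpb (hW v.toAdd).1 (hW w.toAdd).1 (hW v.toAdd).2 (hW w.toAdd).2 h').1)
  have hrange : Nat.card ↥hom.range = 4 := by
    rw [← Nat.card_congr (MonoidHom.ofInjective hinj).toEquiv, Nat.card_congr Multiplicative.toAdd, hker]
  have hDst : (⟨_, hDu⟩ : ↥L) ∈ MulAction.stabilizer ↥L p := by
    show ((stv hf p 1 * stv hf u 1 : GL ι F) : Matrix ι ι F) *ᵥ p = p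
    rw [gl_mul_mulVec, stv_mulVec hf u, swap_zero hf hup, mul_zero, zero_smul, add_zero, stv_mulVec, hf.alternating,
      mul_zero, zero_smul, add_zero]
  have hDnot : (⟨_, hDst⟩ : ↥(MulAction.stabilizer ↥L p)) ∉ hom.range := by
    rintro ⟨v, hv⟩
    obtain ⟨hvp, hvb⟩ := hW v.toAdd
    have h : rs hf p v.toAdd.1 (Phi hf L p v.toAdd.1) = stv hf p 1 * stv hf u 1 :=
      congrArg (fun g : ↥(MulAction.stabilizer ↥L p) => g.1.1) hv
    have h1 := congrArg (fun g : GL ι F => f ((g : Matrix ι ι F) *ᵥ b) b) h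
    have h3 := congrArg (fun g : GL ι F => (g : Matrix ι ι F) *ᵥ b) h
    simp only [rs_mulVec hf h2 hvp, gl_mul_mulVec, stv_mulVec, hf.bilinear.add_left, hf.bilinear.smul_left,
      hf.alternating, hbp, hpb, hvb, swap_zero hf hvb, swap_zero hf hub, zero_smul, one_smul, mul_zero, mul_one,
      add_zero, zero_add, zero_mul] at h1 h3
    rw [h1, one_smul] at h3
    have hv0 : v.toAdd.1 = 0 := add_eq_left.1 (add_right_cancel h3)
    rw [hv0, (Phi_graph hf h2 hS hp).zero hf h2] at h1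
    exact zero_ne_one h1
  have hlt : 4 < Nat.card ↥(MulAction.stabilizer ↥L p) := by
    rw [← hrange]
    refine lt_of_le_of_ne (Subgroup.card_le_card_group _) fun he => hDnot ?_
    rw [Subgroup.eq_top_of_card_eq _ he]
    exact Subgroup.mem_top _
  obtain ⟨k, hk⟩ : 4 ∣ Nat.card ↥(MulAction.stabilizer ↥L p) := hrange ▸ Subgroup.card_subgroup_dvd_card _
  refine ⟨k, by omega, ?_⟩
  rw [← (MulAction.stabilizer ↥L p).card_mul_index, hidx, hk]
  ring

omit hf h2 hS in
/-- subgroups of `Sp_4(2)` of order `60 k`, `k ≥ 2` -/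
theorem sp_four_two_cases {F : Type*} [Field F] [Fintype F] (hF : Fintype.card F = 2)
    {L : Subgroup (GL (Fin 2 ⊕ Fin 2) F)} (hle : L ≤ isoSub (Cfsg.sympForm 2 F)) {k : ℕ} (hk : 2 ≤ k)
    (hcard : Nat.card ↥L = 60 * k) :
    L = isoSub (Cfsg.sympForm 2 F) ∨ Nonempty (↥L ≃* ↥(alternatingGroup (Fin 6))) ∨
      Nonempty (↥L ≃* Equiv.Perm (Fin 5)) := by
  classical
  obtain ⟨e⟩ := CfsgLib.Classical.sp_four_two_equiv_perm hF
  have hrange : isoSub (Cfsg.sympForm 2 F) ≤ (toGL (F := F) (m := 2)).range :=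
    le_of_eq (eq_isoSub (M := (toGL (F := F) (m := 2)).range) isSymplecticForm_sympForm (by rintro _ ⟨A, rfl⟩; exact toGL_mem_iso A)
      (fun u c => ⟨CfsgLib.Sp.tv u c, toGL_tv u c⟩)).symm
  obtain ⟨P, hP⟩ : ∃ P, P = L.comap (toGL (F := F) (m := 2)) := ⟨_, rfl⟩
  obtain ⟨M, hM⟩ : ∃ M, M = P.map e.toMonoidHom := ⟨_, rfl⟩
  have hmapP : P.map (toGL (F := F) (m := 2)) = L := hP ▸ Subgroup.map_comap_eq_self (hle.trans hrange)
  have e2 : ↥L ≃* ↥M := (MulEquiv.subgroupCongr hmapP).symm.trans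
    ((Subgroup.equivMapOfInjective P toGL toGL_injective).symm.trans
      ((Subgroup.equivMapOfInjective P e.toMonoidHom e.injective).trans (MulEquiv.subgroupCongr hM.symm)))
  have hMi : 60 * k * M.index = 720 := by
    rw [← hcard, Nat.card_congr e2.toEquiv, M.card_mul_index, Nat.card_perm, Nat.card_fin]
    rfl
  by_cases h1 : M = ⊤
  · refine Or.inl (le_antisymm hle fun g hg => ?_)
    obtain ⟨A, rfl⟩ := hrange hg
    have hA : e.toMonoidHom A ∈ M := h1 ▸ Subgroup.mem_top _
    rw [hM, Subgroup.mem_map] at hA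
    obtain ⟨B, hB, hBA⟩ := hA
    rw [e.injective hBA, hP] at hB
    exact hB
  by_cases h2 : M = alternatingGroup (Fin 6)
  · exact Or.inr (Or.inl ⟨e2.trans (MulEquiv.subgroupCongr h2)⟩)
  have h6 := Cfsg.Agent.S5944.result 6 (by norm_num) M h1 h2
  have hM6 : M.index = 6 := by nlinarith
  obtain ⟨e5⟩ := Cfsg.Agent.S5945.result.2.1 M hM6
  exact Or.inr (Or.inr ⟨e2.trans e5⟩)

end CfsgLib.Perm.Trans.Symp.O2
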